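import Groth.Agent.Resolve.K112.DictMain
import Groth.Agent.CurvesC.SolOfRat
import Mathlib.RingTheory.Length

/-!
# Boundedness of the lengths of `H^1(X, O_X)` and finite length of `W(A)`
-/

set_option autoImplicit false
universe u
open CategoryTheory CategoryTheory.Limits AlgebraicGeometry TopologicalSpace Opposite

namespace Groth.Agent.Resolve.K112.Bound

open Groth.Agent.CurvesC Groth.Agent.CurvesC.ModDim Groth.Agent.CurvesC.Cousin CousinLin
open Groth.Agent.Lipman.Defs Groth.Agent.Lipman.ZRD158 WM Dict DictMain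

section Length

variable {R M : Type*} [Ring R] [AddCommGroup M] [Module R M]

/-- Length is bounded if every finite set is contained in a submodule of bounded length. -/
theorem length_le_of_forall_finset (N : ℕ)
    (h : ∀ s : Finset M, ∃ P : Submodule R M, (s : Set M) ⊆ P ∧ Module.length R P ≤ (N : ℕ∞)) :
    Module.length R M ≤ (N : ℕ∞) := by
  classical
  have h1 : ∀ p : LTSeries (Submodule R M), p.length ≤ N := by
    intro p
    have h2 : ∀ i : Fin p.length, ∃ x ∈ p i.succ, x ∉ p i.castSucc := fun i ↦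
      SetLike.exists_of_lt (p.step i)
    choose x hx hx' using h2
    obtain ⟨P, hP, hlen⟩ := h (Finset.univ.image x)
    have hxP : ∀ i, x i ∈ P := fun i ↦ hP (Finset.mem_coe.2 (Finset.mem_image_of_mem _ (Finset.mem_univ i)))
    let q : LTSeries (Submodule R P) :=
      { length := p.length
        toFun := fun i ↦ (p i).comap P.subtype
        step := fun i ↦ by
          refine lt_of_le_of_ne (Submodule.comap_mono (p.step i).le) fun heq ↦ ?_
          have h3 : (⟨x i, hxP i⟩ : P) ∈ (p i.succ).comap P.subtype := hx i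
          rw [← heq] at h3
          exact hx' i h3 }
    have h4 := Order.LTSeries.length_le_krullDim q
    rw [← Module.coe_length] at h4
    have h5 : ((p.length : ℕ∞) : WithBot ℕ∞) ≤ ((N : ℕ∞) : WithBot ℕ∞) := h4.trans (WithBot.coe_le_coe.2 hlen)
    exact_mod_cast h5
  have h2 : (Module.length R M : WithBot ℕ∞) ≤ ((N : ℕ∞) : WithBot ℕ∞) := by
    rw [Module.coe_length]
    exact iSup_le fun p ↦ by exact_mod_cast h1 p
  exact WithBot.coe_le_coe.1 h2

end Length

section Modif

/-- The field isomorphism for a birational morphism. -/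
theorem exists_fieldEquiv {A : Type u} [CommRing A] [IsDomain A] {X : Scheme.{u}} [IsIntegral X]
    (f : X ⟶ Spec (CommRingCat.of A))
    (hf : ∃ U : (Spec (CommRingCat.of A)).Opens, (U : Set (Spec (CommRingCat.of A))).Nonempty ∧ IsIso (f ∣_ U))
    (K : Type u) [Field K] [Algebra A K] [IsFractionRing A K] :
    ∃ e : K ≃+* X.functionField, ∀ a, e (algebraMap A K a) = ValData.toK f a := by
  let _ := (ValData.toK f).toAlgebra
  have hfrac : IsFractionRing A X.functionField := ValData.isFractionRing_toK f hf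
  let e : K ≃ₐ[A] X.functionField := IsLocalization.algEquiv (nonZeroDivisors A) K X.functionField
  exact ⟨e.toRingEquiv, fun a ↦ e.commutes a⟩

theorem isSeparated_of_affine {A : Type u} [CommRing A] {X : Scheme.{u}} (f : X ⟶ Spec (CommRingCat.of A))
    [IsSeparated f] : X.IsSeparated := by
  have : IsSeparated (f ≫ terminal.from _) := inferInstance
  have h2 : f ≫ terminal.from _ = terminal.from X := terminal.hom_ext _ _
  rw [h2] at this
  exact ⟨this⟩

/-- Every finite family of elements of `W(A)` lives on a normal modification. -/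
theorem exists_modif (A : Type u) [CommRing A] [IsDomain A] [IsNoetherianRing A] [IsIntegrallyClosed A]
    (hN : CAlg.IsNagata A) (K : Type u) [Field K] [Algebra A K] [IsFractionRing A K] {ι : Type*} [Finite ι]
    (φ : ι → DA A K) :
    ∃ (X : Scheme.{u}) (f : X ⟶ Spec (CommRingCat.of A)) (_ : IsProper f) (_ : IsIntegral X)
      (_ : Pi1.IsNormalScheme X)
      (_ : ∃ U : (Spec (CommRingCat.of A)).Opens, (U : Set (Spec (CommRingCat.of A))).Nonempty ∧ IsIso (f ∣_ U))
      (e : K ≃+* X.functionField) (_ : ∀ a, e (algebraMap A K a) = ValData.toK f a), ∀ i, LC e (φ i).1 := by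
  classical
  obtain ⟨s, hs, hc⟩ := exists_isConst_of_finite (R := im A K) (fun i ↦ (φ i).1) (fun i ↦ (φ i).2)
  choose g hg using hc
  have : Finite s := hs.finite
  obtain ⟨d, hd⟩ := IsLocalization.exist_integer_multiples_of_finite (nonZeroDivisors A) (fun x : s ↦ (x : K))
  choose a ha using hd
  have hd0 : algebraMap A K d ≠ 0 := IsFractionRing.to_map_ne_zero_of_mem_nonZeroDivisors d.2
  have ha' : ∀ x : s, algebraMap A K (a x) = algebraMap A K d * x := fun ψ => by
    rw [ha, Algebra.smul_def]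
  obtain ⟨x₀, hx₀, hx₀0⟩ := hs.exists_ne_zero
  let I : Ideal A := Ideal.span (Set.range a)
  obtain ⟨P, b, hb⟩ := Groth.Agent.Flat2C.BlowExist.exists_isBlowUp (Curv2.idealSheaf A I)
  have hft : BlowUp.IsFiniteTypeIdeal (Curv2.idealSheaf A I) := by
    intro U
    have : IsNoetherianRing Γ(Spec (CommRingCat.of A), U.1) := IsLocallyNoetherian.component_noetherian U
    exact IsNoetherian.noetherian _
  have hI : Curv2.idealSheaf A I ≠ ⊥ := by
    refine SolOfRat.idealSheaf_ne_bot fun h => ?_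
    have h1 : a ⟨x₀, hx₀⟩ ∈ I := Ideal.subset_span ⟨_, rfl⟩
    rw [h, Ideal.mem_bot] at h1
    have h2 := ha' ⟨x₀, hx₀⟩
    rw [h1, map_zero] at h2
    exact mul_ne_zero hd0 hx₀0 h2.symm
  have hbm : Modif.IsModif b := Modif.IsModif.of_isBlowUp hI hft hb
  obtain ⟨X, ν, hν, hνfin, hnorm⟩ := hbm.exists_normalization hN
  have hf := hν.comp hbm
  let f := ν ≫ b
  have := hf.proper
  have := hf.integral
  obtain ⟨e, he⟩ := exists_fieldEquiv f hf.exists_isIso K
  refine ⟨X, f, hf.proper, hf.integral, hnorm, hf.exists_isIso, e, he, fun i x ↦ ?_⟩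
  obtain ⟨_, ⟨l, rfl⟩, hs'⟩ := BlowUpCharts.exists_mem_chart hb.1 (S := Set.range a) rfl (ν x)
  obtain ⟨W0, hW0, hxW0⟩ := BlowUpCharts.mem_chart.1 hs'
  obtain ⟨W, hW, hxW, hWW⟩ := exists_isAffineOpen_mem_and_subset (X := X) (U := ν ⁻¹ᵁ W0) hxW0
  have hη := Cousin.mem_of_nonempty X W x hxW
  have hrel : ∀ m, ∃ c : Γ(X, W), toSec f W (a m) = toSec f W (a l) * c := by
    intro m
    obtain ⟨c, hc⟩ := hW0.dvd (a m) (Ideal.subset_span ⟨m, rfl⟩)
    refine ⟨rs hWW ((ν.app W0).hom c), ?_⟩
    have h1 := congrArg (ν.app W0).hom hc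
    rw [map_mul, ← BlowUpCharts.phi_comp, ← BlowUpCharts.phi_comp] at h1
    have h2 := congrArg (rs hWW) h1
    rw [map_mul] at h2
    have h3 : ∀ z, rs hWW (BlowUpCharts.phi (ν ≫ b) (ν ⁻¹ᵁ W0) z) = toSec f W z := fun z =>
      toSec_res f hWW z
    rwa [h3, h3] at h2
  have hal : a l ≠ 0 := by
    intro h0
    have h1 := hW0.nzd
    rw [h0, map_zero] at h1
    have : Nonempty W0 := ⟨⟨_, hxW0⟩⟩
    have := hbm.integral
    have h2 : Nontrivial Γ(P, W0) := inferInstance
    exact zero_notMem_nonZeroDivisors h1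
  have hl0 : (l : K) ≠ 0 := by
    intro h0
    have h1 := ha' l
    rw [h0, mul_zero, FaithfulSMul.algebraMap_eq_zero_iff] at h1
    exact hal h1
  refine ⟨W, g i l, hxW, hW, fun V hV ↦ hg i V (hV.mem_ZR f he) l l.2 ⟨hl0, fun y hy ↦ ?_⟩⟩
  obtain ⟨c, hc⟩ := hrel ⟨y, hy⟩
  obtain ⟨hη', hV'⟩ := hV
  have h1 := congrArg (X.presheaf.germ W (genericPoint X) hη) hc
  rw [map_mul, ValData.germ_toSec, ValData.germ_toSec, ← he, ← he, ha', ha', map_mul, map_mul, mul_assoc] at h1
  have h2 := mul_left_cancel₀ ((map_ne_zero_iff _ e.injective).2 hd0) h1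
  have h3 := hV' c
  have h4 : X.presheaf.germ W (genericPoint X) hη c = e (y / l) := by
    have h5 : e (l : K) ≠ 0 := (map_ne_zero_iff _ e.injective).2 hl0
    rw [map_div₀, eq_div_iff h5, mul_comm]
    exact h2.symm
  rw [h4, apply_mem_pullV] at h3
  exact h3

end Modif

section Main

variable (A : Type u) [CommRing A] [IsDomain A] (K : Type u) [Field K] [Algebra A K] [IsFractionRing A K]

/-- The injection `H^1(X, O_X) → W(A)`. -/
theorem exists_injective_over (X : Scheme.{u}) [X.Over (Spec (CommRingCat.of A))]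
    (hX : IsProper (X ↘ Spec (CommRingCat.of A))) (hint : IsIntegral X) (hnorm : Pi1.IsNormalScheme X)
    (hiso : ∃ U : (Spec (CommRingCat.of A)).Opens, (U : Set (Spec (CommRingCat.of A))).Nonempty ∧
      IsIso ((X ↘ Spec (CommRingCat.of A)) ∣_ U)) :
    ∃ j : Coh.HH X (Coh.structureModule X) 1 →ₗ[A] WA A K, Function.Injective j := by
  have : X.IsSeparated := isSeparated_of_affine (X ↘ Spec (CommRingCat.of A))
  obtain ⟨e, he⟩ := exists_fieldEquiv (X ↘ Spec (CommRingCat.of A)) hiso K
  obtain ⟨j, hj, -⟩ := exists_injective e he hnorm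
  exact ⟨j, hj⟩

/-- If `W(A)` has finite length then the lengths of all `H^1(X, O_X)` are bounded. -/
theorem bounded_of_isFiniteLength (h : IsFiniteLength A (WA A K)) :
    (∃ N : ℕ, ∀ (X : Scheme.{u}) [X.Over (Spec (CommRingCat.of A))], IsProper (X ↘ Spec (CommRingCat.of A)) →
        IsIntegral X → Pi1.IsNormalScheme X →
        (∃ U : (Spec (CommRingCat.of A)).Opens, (U : Set (Spec (CommRingCat.of A))).Nonempty ∧ IsIso ((X ↘ Spec (CommRingCat.of A)) ∣_ U)) →
        Module.length A (Coh.HH X (Coh.structureModule X) 1) ≤ (N : ℕ∞)) := by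
  obtain ⟨N, hN⟩ := ENat.ne_top_iff_exists.1 (Module.length_ne_top_iff.2 h)
  refine ⟨N, fun X _ hX hint hnorm hiso ↦ ?_⟩
  obtain ⟨j, hj⟩ := exists_injective_over A K X hX hint hnorm hiso
  rw [hN]
  exact Module.length_le_of_injective j hj

/-- If the lengths of all `H^1(X, O_X)` are bounded then `W(A)` has finite length. -/
theorem isFiniteLength_of_bounded [IsNoetherianRing A] [IsIntegrallyClosed A] (hN : CAlg.IsNagata A)
    (h : (∃ N : ℕ, ∀ (X : Scheme.{u}) [X.Over (Spec (CommRingCat.of A))], IsProper (X ↘ Spec (CommRingCat.of A)) →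
        IsIntegral X → Pi1.IsNormalScheme X →
        (∃ U : (Spec (CommRingCat.of A)).Opens, (U : Set (Spec (CommRingCat.of A))).Nonempty ∧ IsIso ((X ↘ Spec (CommRingCat.of A)) ∣_ U)) →
        Module.length A (Coh.HH X (Coh.structureModule X) 1) ≤ (N : ℕ∞))) :
    IsFiniteLength A (WA A K) := by
  obtain ⟨N, hB⟩ := h
  have h1 : Module.length A (WA A K) ≤ (N : ℕ∞) := by
    refine length_le_of_forall_finset N fun s ↦ ?_
    have h2 : ∀ w : s, ∃ φ : DA A K, Submodule.Quotient.mk φ = (w : WA A K) := fun w ↦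
      Submodule.Quotient.mk_surjective _ _
    choose φ hφ using h2
    obtain ⟨X, f, hf, hint, hnorm, hiso, e, he, hLC⟩ := exists_modif A hN K φ
    letI : X.Over (Spec (CommRingCat.of A)) := ⟨f⟩
    have hsep : X.IsSeparated := isSeparated_of_affine f
    have hprop : IsProper (X ↘ Spec (CommRingCat.of A)) := hf
    obtain ⟨j, hj, hr⟩ := exists_injective e he hnorm
    refine ⟨LinearMap.range j, ?_, ?_⟩
    · intro w hw
      obtain ⟨x, hx⟩ := hr (φ ⟨w, hw⟩) (hLC _)
      exact ⟨x, hx.trans (hφ ⟨w, hw⟩)⟩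
    · rw [← (LinearEquiv.ofInjective j hj).length_eq]
      exact hB X hf hint hnorm hiso
  refine Module.length_ne_top_iff.1 fun h2 ↦ ?_
  rw [h2] at h1
  exact absurd h1 (by simp)

/-- The torsion of `H^1(X, O_X)` is bounded. -/
theorem exists_bound_torsionBy [IsLocalRing A] [IsNoetherianRing A] [IsIntegrallyClosed A] (hN : CAlg.IsNagata A)
    (hdim : ringKrullDim A = 2) (a : A) (ha : a ≠ 0) :
    ∃ N : ℕ, ∀ (X : Scheme.{u}) [X.Over (Spec (CommRingCat.of A))], IsProper (X ↘ Spec (CommRingCat.of A)) →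
      IsIntegral X → Pi1.IsNormalScheme X →
      (∃ U : (Spec (CommRingCat.of A)).Opens, (U : Set (Spec (CommRingCat.of A))).Nonempty ∧ IsIso ((X ↘ Spec (CommRingCat.of A)) ∣_ U)) →
      Module.length A ↥(Submodule.torsionBy A (Coh.HH X (Coh.structureModule X) 1) a) ≤ (N : ℕ∞) := by
  obtain ⟨N, hN'⟩ := ENat.ne_top_iff_exists.1 (Module.length_ne_top_iff.2
    (isFiniteLength_torsionBy A (FractionRing A) hN hdim a ha))
  refine ⟨N, fun X _ hX hint hnorm hiso ↦ ?_⟩
  obtain ⟨j, hj⟩ := exists_injective_over A (FractionRing A) X hX hint hnorm hiso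
  rw [hN']
  refine Module.length_le_of_injective (LinearMap.codRestrict (Submodule.torsionBy A (WA A (FractionRing A)) a)
    (j.comp (Submodule.torsionBy A (Coh.HH X (Coh.structureModule X) 1) a).subtype) fun w ↦ ?_) ?_
  · rw [Submodule.mem_torsionBy_iff]
    have h2 := (Submodule.mem_torsionBy_iff _ _).1 w.2
    have h3 := j.map_smul a w.1
    rw [h2, map_zero] at h3
    exact h3.symm
  · intro x y hxy
    exact Subtype.ext (hj (congrArg Subtype.val hxy))

end Main

end Groth.Agent.Resolve.K112.Bound
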