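import Groth.Agent.Ega1.ReducedSub
import Groth.Agent.CurvesA.DimOne
import Groth.Agent.CohqA.ProjDim
import Groth.Agent.Dix.ExcCurve
import Groth.Agent.Divis.EffCartier
import Mathlib.AlgebraicGeometry.Artinian

/-!
# Ideals with support a proper closed subset of an integral curve (helper112)
-/

set_option autoImplicit false
universe u
open CategoryTheory CategoryTheory.Limits AlgebraicGeometry Opposite TopologicalSpace IsLocalRing

namespace Groth.Agent.Resolve.K112.ColenA

/-- In an integral scheme of dimension at most one the points different from the generic point are closed. -/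
theorem isClosed_of_ne (X : Scheme.{u}) [IsIntegral X] (hdim : topologicalKrullDim X ≤ 1) (x : X)
    (hx : x ≠ genericPoint X) : IsClosed ({x} : Set X) := by
  let Z : TopologicalSpace.IrreducibleCloseds X :=
    ⟨closure {x}, isIrreducible_singleton.closure, isClosed_closure⟩
  let W : TopologicalSpace.IrreducibleCloseds X :=
    ⟨closure {genericPoint X}, isIrreducible_singleton.closure, isClosed_closure⟩
  have hle : Z ≤ W := by
    intro y _
    change y ∈ closure {genericPoint X}
    rw [genericPoint_closure]
    trivial
  have hlt : Z < W := by
    refine lt_of_le_of_ne hle fun h => hx ?_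
    have h1 : closure {x} = closure {genericPoint X} :=
      congrArg (fun T : TopologicalSpace.IrreducibleCloseds X => (T : Set X)) h
    exact (inseparable_iff_closure_eq.2 h1).eq
  have h2 := Groth.Agent.CurvesA.DimOne.subsingleton_of_lt hdim hlt
  have h3 : closure {x} = ({x} : Set X) :=
    h2.eq_singleton_of_mem (subset_closure (Set.mem_singleton x))
  rw [← h3]
  exact isClosed_closure

/-- a closed subset of a Noetherian integral curve without the generic point is finite. -/
theorem finite_of_isClosed (X : Scheme.{u}) [IsIntegral X] [IsNoetherian X] (hdim : topologicalKrullDim X ≤ 1)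
    (Z : Set X) (hZ : IsClosed Z) (hg : genericPoint X ∉ Z) : Z.Finite := by
  obtain ⟨S, hSf, hSc, hSi, hSU⟩ := NoetherianSpace.exists_finite_set_isClosed_irreducible hZ
  rw [hSU]
  refine hSf.sUnion fun t ht => ?_
  obtain ⟨g, hgt⟩ := QuasiSober.sober (hSi t ht) (hSc t ht)
  have h1 : g ∈ Z := by
    rw [hSU]
    exact ⟨t, ht, hgt.mem⟩
  have h2 : IsClosed ({g} : Set X) := isClosed_of_ne X hdim g (fun h => hg (h ▸ h1))
  have h3 : t = {g} := by rw [← hgt.def, h2.closure_eq]
  rw [h3]
  exact Set.finite_singleton g

/-- an ideal sheaf which vanishes on a reduced closed subscheme. -/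
theorem le_of_support_le {X : Scheme.{u}} {E J : X.IdealSheafData} [IsReduced E.subscheme]
    (h : E.support ≤ J.support) : J ≤ E := by
  have h1 : E = Scheme.IdealSheafData.vanishingIdeal E.support := by
    have h := Groth.Agent.Ega1.ReducedSub.radical_ker_eq E.subschemeι
    rw [Scheme.IdealSheafData.ker_subschemeι] at h
    rw [Scheme.IdealSheafData.vanishingIdeal_support, h]
  rw [h1]
  exact Scheme.IdealSheafData.le_support_iff_le_vanishingIdeal.1 h

/-- an ideal with support inside an integral curve `V(E)`, not contained in `E`, has finite support consisting of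
closed points. -/
theorem finite_support {X : Scheme.{u}} {E J : X.IdealSheafData} [IsIntegral E.subscheme]
    [IsNoetherian E.subscheme] (hdim : topologicalKrullDim E.subscheme ≤ 1) (hsup : J.support ≤ E.support)
    (hJ : ¬ J ≤ E) :
    (J.support : Set X).Finite ∧ ∀ x ∈ (J.support : Set X), IsClosed ({x} : Set X) := by
  let i := E.subschemeι
  have hi : Topology.IsClosedEmbedding i := i.isClosedEmbedding
  let Z : Set E.subscheme := i ⁻¹' (J.support : Set X)
  have hZ : IsClosed Z := J.support.isClosed.preimage i.continuous
  have hg : genericPoint E.subscheme ∉ Z := by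
    intro hg
    apply hJ
    refine le_of_support_le ?_
    intro x hx
    have hx' : x ∈ Set.range i := by
      rw [Scheme.IdealSheafData.range_subschemeι]
      exact hx
    obtain ⟨y, rfl⟩ := hx'
    have h1 : y ∈ closure {genericPoint E.subscheme} := by
      rw [genericPoint_closure]
      trivial
    have h2 : closure {genericPoint E.subscheme} ⊆ Z :=
      closure_minimal (Set.singleton_subset_iff.2 hg) hZ
    exact h2 h1
  have himg : (J.support : Set X) = i '' Z := by
    rw [Set.image_preimage_eq_inter_range, Scheme.IdealSheafData.range_subschemeι, Set.inter_eq_left.2]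
    exact hsup
  constructor
  · rw [himg]
    exact (finite_of_isClosed _ hdim Z hZ hg).image i
  · rw [himg]
    rintro _ ⟨y, hy, rfl⟩
    have h3 := isClosed_of_ne _ hdim y (fun h => hg (h ▸ hy))
    have h4 := hi.isClosedMap _ h3
    rwa [Set.image_singleton] at h4

end Groth.Agent.Resolve.K112.ColenA
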