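import Groth.Agent.Resolve.K112.CurvePt
import Groth.Agent.CurvesB.HZero
import Groth.Prelude.Def_ClSub2
import Mathlib.AlgebraicGeometry.Artinian
import Mathlib.RingTheory.Artinian.Ring
import Mathlib.RingTheory.Spectrum.Prime.Noetherian
import Mathlib.RingTheory.Length

/-!
# Lengths of finite subschemes (helper112)

* `length_le_restrict`: the length over `B` is at most the length over `A`, for `A → B`;
* `finsum_length_le`: the sum of the lengths of the local rings of an Artinian closed subscheme `V(D)` of
  `Y` over `Spec A` is at most the length of `H^0(Y, O/D)` over `A`.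
-/

set_option autoImplicit false
universe u v w
open CategoryTheory CategoryTheory.Limits AlgebraicGeometry Opposite TopologicalSpace IsLocalRing

namespace Groth.Agent.Resolve.K112.ColenC

open Groth.Agent.Resolve.K112.CurvePt

section alg

theorem length_le_restrict (A : Type u) (B : Type v) (M : Type w) [CommRing A] [CommRing B] [AddCommGroup M]
    [Module A M] [Module B M] (r : A → B) (h : ∀ (a : A) (m : M), a • m = r a • m) :
    Module.length B M ≤ Module.length A M := by
  let F : Submodule B M → Submodule A M := fun N =>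
    { carrier := N
      add_mem' := N.add_mem
      zero_mem' := N.zero_mem
      smul_mem' := fun a m hm => by
        rw [h]
        exact N.smul_mem _ hm }
  have hF : StrictMono F := by
    intro N N' hN
    exact ⟨hN.1, fun h2 => hN.2 h2⟩
  have h1 := Order.krullDim_le_of_strictMono F hF
  rw [← Module.coe_length, ← Module.coe_length] at h1
  exact_mod_cast h1

/-- an Artinian ring is the product of its local rings. -/
theorem length_eq_finsum (B : Type v) [CommRing B] [IsArtinianRing B] :
    Module.length B B = ∑ᶠ p : PrimeSpectrum B,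
      Module.length (Localization.AtPrime p.asIdeal) (Localization.AtPrime p.asIdeal) := by
  classical
  have hfin : Finite (PrimeSpectrum B) := inferInstance
  let _ : Fintype (PrimeSpectrum B) := Fintype.ofFinite _
  let e : B ≃ₐ[B] PrimeSpectrum.PiLocalization B :=
    AlgEquiv.ofBijective (PrimeSpectrum.toPiLocalization B) PrimeSpectrum.toPiLocalization_bijective
  rw [e.toLinearEquiv.length_eq, finsum_eq_sum_of_fintype]
  refine (Module.length_pi_of_fintype B _).trans (Finset.sum_congr rfl fun p _ => ?_)
  exact Module.length_eq_of_surjective (IsArtinianRing.localization_surjective p.asIdeal.primeCompl _)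

end alg

theorem length_top_eq_finsum (Z : Scheme.{u}) [IsArtinianScheme Z] [IsAffine Z] :
    Module.length Γ(Z, ⊤) Γ(Z, ⊤) = ∑ᶠ z : Z, Module.length (Z.presheaf.stalk z) (Z.presheaf.stalk z) := by
  have hU : IsAffineOpen (⊤ : Z.Opens) := isAffineOpen_top Z
  have hart : IsArtinianRing Γ(Z, ⊤) := inferInstance
  rw [length_eq_finsum]
  let φ : Z → PrimeSpectrum Γ(Z, ⊤) := fun z => hU.primeIdealOf ⟨z, trivial⟩
  have hφ : Function.Bijective φ := by
    constructor
    · intro z z' h
      have h4 := congrArg hU.fromSpec h
      simpa [φ, hU.fromSpec_primeIdealOf] using h4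
    · intro p
      refine ⟨hU.fromSpec p, ?_⟩
      have h5 : hU.fromSpec (φ (hU.fromSpec p)) = hU.fromSpec p := hU.fromSpec_primeIdealOf _
      exact hU.fromSpec.isOpenEmbedding.injective h5
  rw [← finsum_comp_equiv (Equiv.ofBijective φ hφ)]
  refine finsum_congr fun z => ?_
  let zz : (⊤ : Z.Opens) := ⟨z, trivial⟩
  let _ : Algebra Γ(Z, ⊤) (Z.presheaf.stalk z) := TopCat.Presheaf.algebra_section_stalk Z.presheaf zz
  have hloc : IsLocalization.AtPrime (Z.presheaf.stalk z) (φ z).asIdeal := hU.isLocalization_stalk zz
  exact length_ringEquiv (IsLocalization.algEquiv (φ z).asIdeal.primeCompl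
    (Localization.AtPrime (φ z).asIdeal) (Z.presheaf.stalk z)).toRingEquiv

theorem finsum_length_le (A : Type u) [CommRing A] (Y : Scheme.{u}) [Y.Over (Spec (CommRingCat.of A))]
    (D : Y.IdealSheafData) [IsArtinianScheme D.subscheme] :
    ∑ᶠ z : ↥D.subscheme, Module.length (D.subscheme.presheaf.stalk z) (D.subscheme.presheaf.stalk z) ≤
      Module.length A (Coh.HH Y (ClSub.quotMod D) 0) := by
  rw [← length_top_eq_finsum]
  let E : Coh.HH Y (ClSub.quotMod D) 0 ≃+ Γ(D.subscheme, ⊤) := CurvesB.HZero.equivAdd (ClSub.quotMod D)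
  let r : A → Γ(D.subscheme, ⊤) := fun t => D.subschemeι.app ⊤ (CurvesB.HZero.gl A Y t)
  have hE : ∀ (t : A) (x : Coh.HH Y (ClSub.quotMod D) 0), E (t • x) = r t * E x := by
    intro t x
    exact (CurvesB.HZero.equivAdd_smul_over (ClSub.quotMod D) t x)
  let _ : Module Γ(D.subscheme, ⊤) (Coh.HH Y (ClSub.quotMod D) 0) := E.module Γ(D.subscheme, ⊤)
  have h1 : Module.length Γ(D.subscheme, ⊤) (Coh.HH Y (ClSub.quotMod D) 0) =
      Module.length Γ(D.subscheme, ⊤) Γ(D.subscheme, ⊤) :=
    LinearEquiv.length_eq
      { E with
        map_smul' := fun b x => by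
          change E (E.symm (b • E x)) = _
          rw [E.apply_symm_apply]
          rfl }
  rw [← h1]
  refine length_le_restrict A Γ(D.subscheme, ⊤) _ r fun t x => ?_
  apply E.injective
  rw [hE]
  change _ = E (E.symm (r t • E x))
  rw [E.apply_symm_apply]
  rfl

end Groth.Agent.Resolve.K112.ColenC
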