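import Groth.Agent.Resolve.K112.ColenC
import Groth.Agent.Ega2.GlobGenCrit
import Groth.Agent.CurvesC.BlowUpCharts
import Groth.Agent.Dix.IdealModCartier
import Groth.Agent.VarietyA.EulerLES
import Groth.Agent.VarietyB.RestrSeq

/-!
# `I O_X` is globally generated (helper112)

* `isGloballyGenerated_comap`: the module of the inverse image ideal `I O_X` is globally generated, for
  `X → Spec A` and an ideal `I` of `A`;
* `length_quotMod_comap_le`: if `A → Γ(X, O_X)` is surjective and `H^1(X, I O_X) = 0` then the length of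
  `H^0(X, O_X/I O_X)` is at most that of `A/I`.
-/

set_option autoImplicit false
universe u v w
open CategoryTheory CategoryTheory.Limits AlgebraicGeometry Opposite TopologicalSpace IsLocalRing

namespace Groth.Agent.Resolve.K112.ColenD

open Groth.Agent.CurvesC.BlowUpCharts Groth.Agent.Fdesc.LocGen Groth.Agent.Dix.IdealModCartier
open Groth.Agent.Dix.IdealModSec

variable {A : Type u} [CommRing A] {X : Scheme.{u}}

/-- an element of `I` gives a global section of `I O_X`. -/
theorem exists_section (b : X ⟶ Spec (CommRingCat.of A)) (I : Ideal A) {a : A} (ha : a ∈ I) :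
    ∃ t : Γ(ClSub.idealMod ((Curv2.idealSheaf A I).comap b), ⊤), val _ t = phi b ⊤ a := by
  refine exists_of_subschemeι_app_eq_zero _ ⊤ _ ?_
  refine Groth.Agent.Divis.IdealFT.subschemeι_app_eq_zero _ ⊤ _ fun x _ => ?_
  obtain ⟨V, hxV, hV⟩ := exists_affine_mem_le (⊤ : X.Opens) x trivial
  refine ⟨V, hV, hxV, ?_⟩
  rw [comap_idealSheaf_ideal, map_phi]
  exact Ideal.mem_map_of_mem _ ha

theorem isGloballyGenerated_comap (b : X ⟶ Spec (CommRingCat.of A)) (I : Ideal A)
    (hq : Coh.IsQCoh (ClSub.idealMod ((Curv2.idealSheaf A I).comap b))) :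
    Curv2.IsGloballyGenerated (ClSub.idealMod ((Curv2.idealSheaf A I).comap b)) := by
  set D := (Curv2.idealSheaf A I).comap b with hD
  refine Groth.Agent.Ega2.GlobGenCrit.isGloballyGenerated_of_span hq (fun U : X.affineOpens => U.1)
    (fun U => U.2) ?_ fun U => ?_
  · rw [eq_top_iff]
    intro x _
    obtain ⟨V, hxV, hV⟩ := exists_affine_mem_le (⊤ : X.Opens) x trivial
    exact Opens.mem_iSup.2 ⟨V, hxV⟩
  · rw [eq_top_iff]
    rintro t -
    set N := Submodule.span Γ(X, U.1) (Set.range (res (ClSub.idealMod D) (le_top : U.1 ≤ ⊤))) with hN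
    let J : Ideal Γ(X, U.1) :=
      { carrier := {c | ∃ s ∈ N, val D s = c}
        add_mem' := by
          rintro _ _ ⟨s, hs, rfl⟩ ⟨t, ht, rfl⟩
          exact ⟨s + t, N.add_mem hs ht, map_add ((ClSub.idealModι D).app U.1).hom s t⟩
        zero_mem' := ⟨0, N.zero_mem, map_zero ((ClSub.idealModι D).app U.1).hom⟩
        smul_mem' := by
          rintro c _ ⟨s, hs, rfl⟩
          exact ⟨c • s, N.smul_mem _ hs, val_smul D c s⟩ }
    have h1 : D.ideal U ≤ J := by
      rw [hD, comap_idealSheaf_ideal, Ideal.map_le_iff_le_comap]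
      intro a ha
      obtain ⟨s, hs⟩ := exists_section b I ha
      refine ⟨res _ le_top s, Submodule.subset_span ⟨s, rfl⟩, ?_⟩
      have h2 : val D (res _ (le_top : U.1 ≤ ⊤) s) = (X.presheaf.map (homOfLE le_top).op).hom (val D s) :=
        val_res D (le_top : U.1 ≤ ⊤) s
      rw [h2, hs]
      exact map_phi b le_top a
    obtain ⟨s, hs, h2⟩ := h1 (val_mem D U t)
    rw [← val_injective D h2]
    exact hs

open Groth.Agent.CurvesB.HZero in
theorem length_quotMod_comap_le [X.Over (Spec (CommRingCat.of A))] (I : Ideal A)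
    (hA : Function.Surjective (gl A X))
    (h1 : Subsingleton (Coh.HH X (ClSub.idealMod ((Curv2.idealSheaf A I).comap (X ↘ Spec (CommRingCat.of A)))) 1)) :
    Module.length A (Coh.HH X (ClSub.quotMod ((Curv2.idealSheaf A I).comap (X ↘ Spec (CommRingCat.of A)))) 0) ≤
      Module.length A (A ⧸ I) := by
  set D := (Curv2.idealSheaf A I).comap (X ↘ Spec (CommRingCat.of A)) with hD
  have hS := VarietyB.RestrSeq.idealSeq_shortExact D
  have hex := VarietyA.EulerLES.exactA₃ A (VarietyB.RestrSeq.idealSeq D) hS 0 1 rfl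
  have hsurj : Function.Surjective (VarietyA.EulerLES.mapA A (VarietyB.RestrSeq.idealSeq D).g 0) := fun x =>
    (hex x).1 (h1.elim _ _)
  let e : Coh.HH X (Coh.structureModule X) 0 := (equivAdd (Coh.structureModule X)).symm (1 : Γ(X, ⊤))
  let φ : A →ₗ[A] Coh.HH X (Coh.structureModule X) 0 := LinearMap.toSpanSingleton A _ e
  have hφ : Function.Surjective φ := by
    intro x
    obtain ⟨a, ha⟩ := hA (equivAdd (Coh.structureModule X) x)
    refine ⟨a, ?_⟩
    apply (equivAdd (Coh.structureModule X)).injective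
    rw [← ha]
    change equivAdd (Coh.structureModule X) (a • e) = _
    rw [equivAdd_smul_over, AddEquiv.apply_symm_apply]
    exact mul_one (M := Γ(X, ⊤)) _
  have hk : ∀ a ∈ I, ∀ x : Coh.HH X (ClSub.quotMod D) 0, a • x = 0 := by
    intro a ha x
    apply (equivAdd (ClSub.quotMod D)).injective
    rw [equivAdd_smul_over, map_zero]
    have h2 : D.subschemeι.app ⊤ (gl A X a) = 0 := by
      refine Groth.Agent.Divis.IdealFT.subschemeι_app_eq_zero D ⊤ _ fun x _ => ?_
      obtain ⟨V, hxV, hV⟩ := exists_affine_mem_le (⊤ : X.Opens) x trivial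
      refine ⟨V, hV, hxV, ?_⟩
      have h3 : gl A X a = phi (X ↘ Spec (CommRingCat.of A)) ⊤ a :=
        (phi_top (X ↘ Spec (CommRingCat.of A)) a).symm
      rw [h3, hD, comap_idealSheaf_ideal, map_phi]
      exact Ideal.mem_map_of_mem _ ha
    have h3 : ∀ (r m : Γ(D.subscheme, ⊤)), r = 0 → r * m = 0 := fun r m hr => by rw [hr, zero_mul]
    exact h3 (D.subschemeι.app ⊤ (gl A X a)) _ h2
  let ψ : A →ₗ[A] Coh.HH X (ClSub.quotMod D) 0 :=
    (VarietyA.EulerLES.mapA A (VarietyB.RestrSeq.idealSeq D).g 0).comp φ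
  have hψ : Function.Surjective ψ := hsurj.comp hφ
  have hIψ : I ≤ LinearMap.ker ψ := by
    intro a ha
    rw [LinearMap.mem_ker]
    have h4 : ψ a = a • ψ 1 := by rw [← map_smul, smul_eq_mul, mul_one]
    rw [h4]
    exact hk a ha _
  refine Module.length_le_of_surjective (I.liftQ ψ hIψ) ?_
  intro x
  obtain ⟨a, rfl⟩ := hψ x
  exact ⟨Submodule.Quotient.mk a, rfl⟩

end Groth.Agent.Resolve.K112.ColenD
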