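import Groth.Agent.Resolve.K112.ColenD
import Groth.Agent.Dix.TwistClosed490
import Groth.Agent.CurvesA.InvAffine
import Groth.Agent.Fdesc.LocGenPullback
import Mathlib.CategoryTheory.Abelian.DiagramLemmas.KernelCokernelComp

/-!
# Dropping a Cartier divisor from an ideal with finite support (helper112)

* `nonempty_iso_of_finite`: an invertible module on a finite affine scheme with finitely many points is trivial;
* `nonempty_coker_quot`: `K / K I' ≅ O / I'` for `K` effective Cartier and `V(I')` a finite set;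
* `length_quotMod_lt`: `length H^0(O/I') < length H^0(O/K I')` if `K ≠ ⊤`.
-/

set_option autoImplicit false
universe u v w
open CategoryTheory CategoryTheory.Limits AlgebraicGeometry Opposite TopologicalSpace IsLocalRing

namespace Groth.Agent.Resolve.K112.ColenE

open Groth.Agent.Dix.TwistClosed490

theorem nonempty_iso_of_finite (Z : Scheme.{u}) [IsAffine Z] [Finite Z] (L : Z.Modules)
    (hL : PicF.IsInvertible L) : Nonempty (L ≅ Coh.structureModule Z) := by
  classical
  let _ : Fintype Z := Fintype.ofFinite _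
  rw [Groth.Agent.Ega4dA.GenSec.isInvertible_iff] at hL
  obtain ⟨s, hs⟩ := Groth.Agent.CurvesA.InvAffine.exists_section_of_finite L (isAffineOpen_top Z)
    (fun x _ => hL x) Finset.univ (fun _ _ => trivial)
  rw [Groth.Agent.Ega4dA.GenSec.nonempty_iso_iff]
  refine ⟨s, Groth.Agent.Ega4dA.GenSec.isGen_of_cover fun x _ => ?_⟩
  obtain ⟨V, hV, hxV, h⟩ := hs x (Finset.mem_univ x)
  exact ⟨V, hV, hxV, h⟩

section Abelian

variable {C : Type*} [Category C] [Abelian C]

/-- `0 ⟶ Y/X ⟶ Z/X ⟶ Z/Y ⟶ 0`. -/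
theorem shortExact_coker {X Y Z : C} (f : X ⟶ Y) (g : Y ⟶ Z) [Mono g] :
    ∃ (a : cokernel f ⟶ cokernel (f ≫ g)) (b : cokernel (f ≫ g) ⟶ cokernel g) (w : a ≫ b = 0),
      (ShortComplex.mk a b w).ShortExact := by
  have h := kernelCokernelCompSequence_exact f g
  let a : cokernel f ⟶ cokernel (f ≫ g) := cokernel.map f (f ≫ g) (𝟙 _) g (by simp)
  let b : cokernel (f ≫ g) ⟶ cokernel g := cokernel.map (f ≫ g) g f (𝟙 _) (by simp)
  have h2 := h.exact 2
  have h3 := h.exact 3
  have hker : IsZero (kernel g) := by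
    refine (IsZero.iff_id_eq_zero _).2 ?_
    rw [← cancel_mono (kernel.ι g), kernel.ι_of_mono]
    simp
  have w : a ≫ b = 0 := h.toIsComplex.zero 3
  refine ⟨a, b, w, ?_⟩
  have hmono : Mono a := by
    have : (ShortComplex.mk (kernelCokernelCompSequence.δ f g) a (h.toIsComplex.zero 2)).Exact := h2
    exact this.mono_g (hker.eq_of_src _ _)
  have hepi : Epi b := by
    have : Epi (cokernel.π (f ≫ g) ≫ b) := by
      have : cokernel.π (f ≫ g) ≫ b = cokernel.π g := by simp [b]
      rw [this]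
      infer_instance
    exact epi_of_epi (cokernel.π (f ≫ g)) b
  exact { exact := h3, mono_f := hmono, epi_g := hepi }

end Abelian

variable {X : Scheme.{u}}

/-- `O/J` is the cokernel of `J ⟶ O`. -/
theorem nonempty_coker_iso (J : X.IdealSheafData) :
    Nonempty (cokernel (ClSub.idealModι J) ≅ ClSub.quotMod J) := by
  have h := VarietyB.RestrSeq.idealSeq_shortExact J
  have := h.epi_g
  exact ⟨(cokernelIsCokernel (ClSub.idealModι J)).coconePointUniqueUpToIso h.gIsCokernel⟩

/-- `0 ⟶ K/J ⟶ O/J ⟶ O/K ⟶ 0`. -/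
theorem exists_shortExact {J K : X.IdealSheafData} (h : J ≤ K) :
    ∃ (S : ShortComplex X.Modules), S.ShortExact ∧ Nonempty (S.X₁ ≅ cokernel (incl h)) ∧
      Nonempty (S.X₂ ≅ ClSub.quotMod J) ∧ Nonempty (S.X₃ ≅ ClSub.quotMod K) := by
  obtain ⟨a, b, w, hS⟩ := shortExact_coker (incl h) (ClSub.idealModι K)
  refine ⟨_, hS, ⟨Iso.refl _⟩, ?_, nonempty_coker_iso K⟩
  obtain ⟨e⟩ := nonempty_coker_iso J
  exact ⟨cokernelIsoOfEq (incl_ι h) ≪≫ e⟩

/-- `K / K I' ≅ O / I'`. -/
theorem nonempty_coker_quot {K I' : X.IdealSheafData} (hK : BlowUp.IsEffCartierIdeal K)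
    [IsAffine I'.subscheme] [Finite I'.subscheme] (h : K * I' ≤ K) :
    Nonempty (cokernel (incl h) ≅ ClSub.quotMod I') := by
  have hker : I'.subschemeι.ker = I' := Scheme.IdealSheafData.ker_subschemeι I'
  have h1 : Groth.Agent.Ega1.ClosedKill.Kills I'.subschemeι.ker (cokernel (incl h)) :=
    kills_cokernel h (by rw [hker])
  have h2 := h1.isIso_unit I'.subschemeι
  obtain ⟨e⟩ := nonempty_pull_iso I'.subschemeι h (by rw [hker])
  have hinv := Groth.Agent.Fdesc.LocGen.isInvertible_pullback I'.subschemeι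
    (Groth.Agent.Dix.IdealModCartier.isInvertible_idealMod hK)
  obtain ⟨e2⟩ := nonempty_iso_of_finite _ _ hinv
  exact ⟨(@asIso _ _ _ _ ((Scheme.Modules.pullbackPushforwardAdjunction I'.subschemeι).unit.app
        (cokernel (incl h))) h2) ≪≫ (Scheme.Modules.pushforward I'.subschemeι).mapIso (e.symm ≪≫ e2)⟩

/-- the image of `1` under an epimorphism from the structure module to a non-zero module. -/
theorem length_lt (A : Type u) [CommRing A] [X.Over (Spec (CommRingCat.of A))] (S : ShortComplex X.Modules)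
    (hS : S.ShortExact) (p : Coh.structureModule X ⟶ S.X₂) [Epi p] (h3 : ¬ IsZero S.X₃)
    (hfin : Module.length A (Coh.HH X S.X₂ 0) ≠ ⊤) :
    Module.length A (Coh.HH X S.X₁ 0) < Module.length A (Coh.HH X S.X₂ 0) := by
  have hinj := VarietyA.EulerLES.injectiveA₀ A S hS
  have hex := VarietyA.EulerLES.exactA₂ A S hS 0
  set g := VarietyA.EulerLES.mapA A S.g 0 with hg
  have hepi : Epi S.g := hS.epi_g
  have hg0 : g ≠ 0 := by
    intro h0
    apply h3
    have h4 : p ≫ S.g = 0 := by
      apply Groth.Agent.Fdesc.LocGen.hom_ext_sec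
      have h5 := CurvesB.HZero.equivAdd_map S.g ((CurvesB.HZero.equivAdd S.X₂).symm
        (Groth.Agent.Fdesc.LocGen.sec p ⊤))
      rw [AddEquiv.apply_symm_apply] at h5
      have h6 : Sheaf.H.map ((SheafOfModules.toSheaf X.ringCatSheaf).map S.g) 0
          ((CurvesB.HZero.equivAdd S.X₂).symm (Groth.Agent.Fdesc.LocGen.sec p ⊤)) = 0 :=
        congrArg (fun t => t ((CurvesB.HZero.equivAdd S.X₂).symm
          (Groth.Agent.Fdesc.LocGen.sec p ⊤))) h0
      rw [Groth.Agent.Fdesc.LocGen.sec_comp, ← h5]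
      refine (congrArg _ h6).trans ?_
      rw [map_zero]
      rfl
    have h7 : Epi (p ≫ S.g) := epi_comp _ _
    rw [h4] at h7
    exact (IsZero.iff_id_eq_zero _).2 (by
      rw [← cancel_epi (0 : Coh.structureModule X ⟶ S.X₃)]
      simp)
  have hr : 0 < Module.length A (LinearMap.range g) := by
    have : Nontrivial (LinearMap.range g) := by
      rw [Submodule.nontrivial_iff_ne_bot, Ne, LinearMap.range_eq_bot]
      exact hg0
    exact Module.length_pos
  have h8 : Module.length A (Coh.HH X S.X₂ 0) =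
      Module.length A (Coh.HH X S.X₁ 0) + Module.length A (LinearMap.range g) := by
    refine Module.length_eq_add_of_exact (VarietyA.EulerLES.mapA A S.f 0) g.rangeRestrict hinj
      g.surjective_rangeRestrict ?_
    intro x
    rw [← hex x, ← LinearMap.mem_ker, LinearMap.ker_rangeRestrict, LinearMap.mem_ker]
  rw [h8] at hfin ⊢
  rw [add_comm]
  exact ENat.lt_add_left (fun h => hfin (by rw [h, top_add])) hr

/-- `length H^0(O/I') < length H^0(O/K I')`. -/
theorem length_quotMod_lt (A : Type u) [CommRing A] [X.Over (Spec (CommRingCat.of A))]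
    {K I' J : X.IdealSheafData} (hK : BlowUp.IsEffCartierIdeal K) (hK1 : K ≠ ⊤)
    [IsAffine I'.subscheme] [Finite I'.subscheme] (hJ : J = I' * K)
    (hfin : Module.length A (Coh.HH X (ClSub.quotMod J) 0) ≠ ⊤) :
    Module.length A (Coh.HH X (ClSub.quotMod I') 0) < Module.length A (Coh.HH X (ClSub.quotMod J) 0) := by
  have hJ' : J = K * I' := by rw [hJ, mul_comm]
  subst hJ'
  have h : K * I' ≤ K := mul_le_of_le_one_right' (by
    rw [Scheme.IdealSheafData.one_eq_top]; exact le_top)
  obtain ⟨S, hS, ⟨e1⟩, ⟨e2⟩, ⟨e3⟩⟩ := exists_shortExact h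
  obtain ⟨e4⟩ := nonempty_coker_quot hK h
  have hepi := VarietyB.RestrSeq.epi_toSubscheme (K * I')
  have h5 : ¬ IsZero S.X₃ := by
    intro h0
    have h6 : IsZero (ClSub.quotMod K) := h0.of_iso e3.symm
    apply hK1
    rw [eq_top_iff]
    intro U a _
    have h7 : Subsingleton Γ(ClSub.quotMod K, U.1) := by
      refine ⟨fun x y => ?_⟩
      have h8 : 𝟙 (ClSub.quotMod K) = 0 := h6.eq_of_src _ _
      have h9 : ∀ z : Γ(ClSub.quotMod K, U.1), z = 0 := fun z => by
        have h10 := congr(Scheme.Modules.Hom.app $h8 U.1 z)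
        exact h10
      rw [h9 x, h9 y]
    have h8 : K.subschemeι.app U.1 a = 0 := Subsingleton.elim (α := Γ(ClSub.quotMod K, U.1)) _ _
    have h9 := Groth.Agent.Divis.IdealFT.mem_ideal_of_subschemeι_app_eq_zero K U.1 a h8 U le_rfl
    have h10 : (X.presheaf.map (homOfLE (le_refl U.1)).op).hom a = a :=
      CurvesC.BlowUpCharts.map_self le_rfl a
    rwa [h10] at h9
  have l1 := (VarietyA.EulerLES.equivA A (e1 ≪≫ e4) 0).length_eq
  have l2 := (VarietyA.EulerLES.equivA A e2 0).length_eq
  rw [← l1, ← l2]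
  rw [← l2] at hfin
  exact length_lt A S hS (ClSub.toSubscheme (K * I') ≫ e2.inv) h5 hfin

end Groth.Agent.Resolve.K112.ColenE
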