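import Groth.Agent.Resolve.K112.ColenE
import Groth.Agent.Resolve.K112.ColenA
import Groth.Agent.S1624
import Groth.Agent.S1682
import Groth.Agent.S2821
import Groth.Agent.S2348
import Groth.Agent.Flat2C.BlowProper
import Groth.Agent.Resolve.K374.ModBasic

/-!
# The colength of an ideal drops under blowing up (helper112)
-/

set_option autoImplicit false
universe u
open CategoryTheory CategoryTheory.Limits AlgebraicGeometry Opposite TopologicalSpace IsLocalRing

namespace Groth.Agent.Resolve.K112.ColenM

open Groth.Agent.CurvesC.BlowUpCharts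

theorem isFiniteLength_quotient {R : Type u} [CommRing R] [IsLocalRing R] [IsNoetherianRing R]
    (I : Ideal R) (h : ∀ q : Ideal R, q.IsPrime → I ≤ q → q = maximalIdeal R) :
    IsFiniteLength R (R ⧸ I) := by
  have h1 : IsArtinianRing (R ⧸ I) := by
    rw [isArtinianRing_iff_isNoetherianRing_krullDimLE_zero]
    refine ⟨inferInstance, ?_⟩
    rw [Ring.krullDimLE_zero_iff]
    intro q hq
    have h2 := h (q.comap (Ideal.Quotient.mk I)) (Ideal.comap_isPrime _ q) (by
      intro z hz
      rw [Ideal.mem_comap, Ideal.Quotient.eq_zero_iff_mem.2 hz]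
      exact q.zero_mem)
    refine Ideal.isMaximal_of_isIntegral_of_isMaximal_comap' (Ideal.Quotient.mk I)
      (RingHom.isIntegral_of_surjective _ Ideal.Quotient.mk_surjective) q ?_
    rw [h2]; infer_instance
  rw [isFiniteLength_iff_isNoetherian_isArtinian]
  refine ⟨inferInstance, ?_⟩
  have h1' : IsArtinian (R ⧸ I) (R ⧸ I) := h1
  exact isArtinian_of_surjective_algebraMap (R := R ⧸ I) Ideal.Quotient.mk_surjective

variable {A : Type u} [CommRing A]

theorem comap_mono {X : Scheme.{u}} (b : X ⟶ Spec (CommRingCat.of A)) {I J : Ideal A} (h : I ≤ J) :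
    (Curv2.idealSheaf A I).comap b ≤ (Curv2.idealSheaf A J).comap b := by
  intro U
  rw [comap_idealSheaf_ideal, comap_idealSheaf_ideal]
  exact Ideal.map_mono h

theorem pow_comap {X : Scheme.{u}} (b : X ⟶ Spec (CommRingCat.of A)) (I : Ideal A) (n : ℕ) :
    ((Curv2.idealSheaf A I).comap b) ^ n = (Curv2.idealSheaf A (I ^ n)).comap b := by
  ext U : 2
  rw [Scheme.IdealSheafData.ideal_pow, Pi.pow_apply, comap_idealSheaf_ideal, comap_idealSheaf_ideal, Ideal.map_pow]

section Main

variable [IsRegularLocalRing A] (hA : ringKrullDim A = 2) {X : Scheme.{u}}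
    {b : X ⟶ Spec (CommRingCat.of A)}
    (hb : BlowUp.IsBlowUp b (Curv2.idealSheaf A (IsLocalRing.maximalIdeal A)))

include hA hb in
/-- the exceptional divisor. -/
theorem exc_props : (IsIntegral ((Curv2.idealSheaf A (maximalIdeal A)).comap b).subscheme) ∧
    IsNoetherian ((Curv2.idealSheaf A (maximalIdeal A)).comap b).subscheme ∧
    topologicalKrullDim ((Curv2.idealSheaf A (maximalIdeal A)).comap b).subscheme ≤ 1 := by
  set E := (Curv2.idealSheaf A (maximalIdeal A)).comap b with hE
  obtain ⟨e, -⟩ := Groth.Agent.Dix.ExcCurve.exists_iso_local A hA hb E.subschemeι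
    (Scheme.IdealSheafData.ker_subschemeι E)
  let _ : Field (A ⧸ maximalIdeal A) := Ideal.Quotient.field (maximalIdeal A)
  have h1 : IsIntegral (CohB1.ProjSpace 1 (A ⧸ maximalIdeal A)) := inferInstance
  have h2 : IsNoetherian (CohB1.ProjSpace 1 (A ⧸ maximalIdeal A)) :=
    Groth.Agent.CohqA.ProjDim.isNoetherian (A ⧸ maximalIdeal A) 1
  have h3 := Groth.Agent.CohqA.ProjDim.topologicalKrullDim_le (A ⧸ maximalIdeal A) 1
  refine ⟨IsIntegral.of_isIso e.inv, ?_, ?_⟩
  · have : IsLocallyNoetherian E.subscheme := isLocallyNoetherian_of_isOpenImmersion e.hom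
    have : CompactSpace E.subscheme := (Scheme.homeoOfIso e).symm.compactSpace
    exact {}
  · rw [IsHomeomorph.topologicalKrullDim_eq _ (Scheme.homeoOfIso e).isHomeomorph]
    exact h3

include hA hb in
theorem modif : ∃ (_ : IsDomain A) (_ : IsIntegrallyClosed A) (_ : IsIntegral X) (_ : IsProper b),
    ∃ U : (Spec (CommRingCat.of A)).Opens, (U : Set (Spec (CommRingCat.of A))).Nonempty ∧ IsIso (b ∣_ U) := by
  obtain ⟨h1, h2⟩ := Groth.Agent.S2821.result A
  have h3 : IsIntegrallyClosed A := inferInstance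
  have hft : BlowUp.IsFiniteTypeIdeal (Curv2.idealSheaf A (maximalIdeal A)) := fun U => by
    have := IsLocallyNoetherian.component_noetherian U
    exact IsNoetherian.noetherian _
  have hne : (Curv2.idealSheaf A (maximalIdeal A)) ≠ ⊥ := by
    intro h0
    have h5 := (Scheme.IdealSheafData.equivOfIsAffine (X := Spec (CommRingCat.of A))).apply_symm_apply
      ((maximalIdeal A).map (Scheme.ΓSpecIso (CommRingCat.of A)).inv.hom)
    rw [Scheme.IdealSheafData.equivOfIsAffine_apply, Scheme.IdealSheafData.equivOfIsAffine_symm_apply] at h5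
    rw [Curv2.idealSheaf] at h0
    rw [h0] at h5
    have h6 : maximalIdeal A = ⊥ := by
      have h7 : Function.Injective (Scheme.ΓSpecIso (CommRingCat.of A)).inv.hom :=
        (ConcreteCategory.bijective_of_isIso (Scheme.ΓSpecIso (CommRingCat.of A)).inv).1
      rw [← Ideal.map_eq_bot_iff_of_injective h7, ← h5]
      rfl
    have h8 : IsField A := IsLocalRing.isField_iff_maximalIdeal_eq.2 h6
    rw [ringKrullDim_eq_zero_of_isField h8] at hA
    exact absurd hA (by decide)
  obtain ⟨h4, -⟩ := Groth.Agent.S2348.result _ hne b hb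
  refine ⟨h1, h3, h4, Groth.Agent.Flat2C.BlowProper.isProper_of_isBlowUp hb hft,
    (Curv2.idealSheaf A (maximalIdeal A)).support.compl, ?_, Groth.Agent.S1682.result _ b hb⟩
  by_contra hemp
  rw [Set.not_nonempty_iff_eq_empty] at hemp
  apply hne
  rw [← Scheme.IdealSheafData.support_eq_top_iff]
  apply TopologicalSpace.Closeds.ext
  exact Set.compl_empty_iff.1 hemp

include hA hb in
theorem support_props {I : Ideal A} {n : ℕ} (hIn : maximalIdeal A ^ n ≤ I) (hIm : I ≤ maximalIdeal A)
    {d : ℕ} {I' : X.IdealSheafData}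
    (hd : (Curv2.idealSheaf A I).comap b = I' * ((Curv2.idealSheaf A (maximalIdeal A)).comap b) ^ d)
    (hmax : ¬ (Curv2.idealSheaf A I).comap b ≤ ((Curv2.idealSheaf A (maximalIdeal A)).comap b) ^ (d + 1)) :
    (I'.support : Set X).Finite ∧ (∀ x ∈ (I'.support : Set X), IsClosed ({x} : Set X)) := by
  obtain ⟨h1, h2, h3⟩ := exc_props hA hb
  have hn : n ≠ 0 := by
    rintro rfl
    rw [pow_zero, Ideal.one_eq_top] at hIn
    exact (maximalIdeal.isMaximal A).ne_top (top_le_iff.1 (hIn.trans hIm))
  refine ColenA.finite_support h3 ?_ ?_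
  · rw [← Scheme.IdealSheafData.support_pow ((Curv2.idealSheaf A (maximalIdeal A)).comap b) n hn]
    apply Scheme.IdealSheafData.support_antitone
    rw [pow_comap]
    refine (comap_mono b hIn).trans ?_
    rw [hd]
    exact mul_le_of_le_one_right' (by rw [Scheme.IdealSheafData.one_eq_top]; exact le_top)
  · intro h
    apply hmax
    rw [hd, pow_succ']
    exact mul_le_mul_left h _

end Main

end Groth.Agent.Resolve.K112.ColenM
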