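import Groth.Agent.CurvesC.CousinConv

/-!
# `H^1(X, O_X)` in terms of Cousin data: the connecting map and its linearity
-/

set_option autoImplicit false
universe u
open CategoryTheory CategoryTheory.Limits AlgebraicGeometry TopologicalSpace Opposite Abelian

namespace Groth.Agent.Resolve.K112.CousinLin

open Groth.Agent.CohqA.SheafH Groth.Agent.CurvesC.Cousin

section General

variable {X : TopCat.{u}}

theorem shortExact {F K : CohTop.Ab X} (φ : F ⟶ K) [Mono φ] :
    (ShortComplex.mk φ (cokernel.π φ) (cokernel.condition φ)).ShortExact :=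
  { exact := ShortComplex.exact_cokernel φ
    mono_f := inferInstance
    epi_g := inferInstance }

/-- Naturality of the connecting map. -/
theorem δ_naturality {S₁ S₂ : ShortComplex (CohTop.Ab X)} (h₁ : S₁.ShortExact) (h₂ : S₂.ShortExact)
    (m : S₁ ⟶ S₂) (n : ℕ) (U : Opens X) (x : HU S₁.X₃ n U) :
    δ h₂ n U (map m.τ₃ n U x) = map m.τ₁ (n + 1) U (δ h₁ n U x) := by
  rw [δ_apply, δ_apply, map_apply, map_apply, Ext.comp_assoc_of_second_deg_zero,
    ← ShortComplex.ShortExact.extClass_naturality h₁ h₂ m, Ext.comp_assoc_of_third_deg_zero]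

/-- The connecting map on global sections. -/
noncomputable def dlt {F K : CohTop.Ab X} (φ : F ⟶ K) [Mono φ] :
    (cokernel φ).obj.obj (op (⊤ : Opens X)) →+ Sheaf.H.{u} F 1 :=
  ((HEquivHU F 1 (isTerminalTop (α := Opens X))).symm.toAddMonoidHom.comp (δ (shortExact φ) 0 ⊤)).comp
    (H0 (cokernel φ) ⊤).symm.toAddMonoidHom

theorem dlt_apply {F K : CohTop.Ab X} (φ : F ⟶ K) [Mono φ] (t : (cokernel φ).obj.obj (op (⊤ : Opens X))) :
    dlt φ t = (HEquivHU F 1 (isTerminalTop (α := Opens X))).symm (δ (shortExact φ) 0 ⊤ ((H0 (cokernel φ) ⊤).symm t)) :=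
  rfl

theorem dlt_surjective {F K : CohTop.Ab X} (φ : F ⟶ K) [Mono φ] [TopCat.Sheaf.IsFlasque K] :
    Function.Surjective (dlt φ) := by
  intro x
  have hK : Subsingleton (HU K 1 (⊤ : Opens X)) := CohtopA.Flasque.subsingleton_HU_succ K ⊤ 0
  obtain ⟨y, hy⟩ := exact₁ (shortExact φ) 0 ⊤ (HEquivHU F 1 (isTerminalTop (α := Opens X)) x) (Subsingleton.elim _ _)
  refine ⟨H0 (cokernel φ) ⊤ y, ?_⟩
  rw [dlt_apply, AddEquiv.symm_apply_apply]
  rw [AddEquiv.symm_apply_eq]
  exact hy

theorem dlt_eq_zero_iff {F K : CohTop.Ab X} (φ : F ⟶ K) [Mono φ] (t : (cokernel φ).obj.obj (op (⊤ : Opens X))) :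
    dlt φ t = 0 ↔ ∃ s : K.obj.obj (op (⊤ : Opens X)), (cokernel.π φ).hom.app (op ⊤) s = t := by
  rw [dlt_apply, EmbeddingLike.map_eq_zero_iff]
  constructor
  · intro h
    obtain ⟨y, hy⟩ := exact₃ (shortExact φ) 0 ⊤ _ h
    refine ⟨H0 K ⊤ y, ?_⟩
    have h1 := H0_map (cokernel.π φ) ⊤ y
    rw [← h1]
    erw [hy]
    exact AddEquiv.apply_symm_apply _ _
  · rintro ⟨s, rfl⟩
    have h1 : (H0 (cokernel φ) ⊤).symm ((cokernel.π φ).hom.app (op ⊤) s) =
        map (cokernel.π φ) 0 ⊤ ((H0 K ⊤).symm s) := by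
      apply (H0 (cokernel φ) ⊤).injective
      rw [H0_map, AddEquiv.apply_symm_apply, AddEquiv.apply_symm_apply]
    rw [h1]
    exact δ_map (shortExact φ) 0 ⊤ _

theorem dlt_naturality {F K : CohTop.Ab X} (φ : F ⟶ K) [Mono φ] (a : F ⟶ F) (b : K ⟶ K) (h : φ ≫ b = a ≫ φ)
    (t : (cokernel φ).obj.obj (op (⊤ : Opens X))) :
    dlt φ ((cokernel.map φ φ a b h).hom.app (op ⊤) t) = Sheaf.H.map a 1 (dlt φ t) := by
  let m : ShortComplex.mk φ (cokernel.π φ) (cokernel.condition φ) ⟶
      ShortComplex.mk φ (cokernel.π φ) (cokernel.condition φ) :=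
    { τ₁ := a
      τ₂ := b
      τ₃ := cokernel.map φ φ a b h
      comm₁₂ := h.symm
      comm₂₃ := by
        simp }
  rw [dlt_apply, dlt_apply, AddEquiv.symm_apply_eq, HEquivHU_map, AddEquiv.apply_symm_apply]
  have h1 := δ_naturality (shortExact φ) (shortExact φ) m 0 ⊤ ((H0 (cokernel φ) ⊤).symm t)
  refine Eq.trans ?_ h1
  congr 1
  apply (H0 (cokernel φ) ⊤).injective
  rw [AddEquiv.apply_symm_apply]
  change _ = H0 (cokernel φ) ⊤ (map (cokernel.map φ φ a b h) 0 ⊤ ((H0 (cokernel φ) ⊤).symm t))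
  rw [H0_map, AddEquiv.apply_symm_apply]

end General

section Scheme

variable (X : Scheme.{u}) [IsIntegral X]

/-- Multiplication by a rational function. -/
def mulGen {X : TopCat.{u}} (η : X) (R : Type u) [CommRing R] (r : R) : genSheaf η R ⟶ genSheaf η R :=
  ⟨{ app := fun U => AddCommGrpCat.ofHom
        { toFun := fun s h => r * s h
          map_zero' := by
            funext h
            exact mul_zero _
          map_add' := fun s t => by
            funext h
            exact mul_add _ _ _ }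
     naturality := fun U V i => by
        ext s
        rfl }⟩

theorem toGen_mulGen (r : Γ(X, ⊤)) :
    toGen X ≫ mulGen (X := X) (genericPoint X) X.functionField (X.presheaf.germ ⊤ (genericPoint X) trivial r) =
      Coh.smulAb (Coh.structureModule X) r ≫ toGen X := by
  ext U s
  funext h
  have h1 : ∀ s : Γ(X, U.unop), X.presheaf.germ ⊤ (genericPoint X) trivial r *
      X.presheaf.germ U.unop (genericPoint X) h.down s = X.presheaf.germ U.unop (genericPoint X) h.down
        (X.presheaf.map (homOfLE (le_top : U.unop ≤ ⊤)).op r * s) := by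
    intro s
    rw [map_mul, X.presheaf.germ_res_apply]
  exact h1 s

/-- Multiplication by a global function on the sheaf of Cousin data. -/
noncomputable def mulQ (r : Γ(X, ⊤)) : cokernel (toGen X) ⟶ cokernel (toGen X) :=
  cokernel.map (toGen X) (toGen X) (Coh.smulAb (Coh.structureModule X) r)
    (mulGen (X := X) (genericPoint X) X.functionField (X.presheaf.germ ⊤ (genericPoint X) trivial r)) (toGen_mulGen X r)

theorem mulQ_π (r : Γ(X, ⊤)) (U : X.Opens) (s : (genSheaf (X := X) (genericPoint X) X.functionField).obj.obj (op U)) :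
    (mulQ X r).hom.app (op U) ((cokernel.π (toGen X)).hom.app (op U) s) =
      (cokernel.π (toGen X)).hom.app (op U) ((mulGen (X := X) (genericPoint X) X.functionField
        (X.presheaf.germ ⊤ (genericPoint X) trivial r)).hom.app (op U) s) := by
  have h1 : cokernel.π (toGen X) ≫ mulQ X r = mulGen (X := X) (genericPoint X) X.functionField
      (X.presheaf.germ ⊤ (genericPoint X) trivial r) ≫ cokernel.π (toGen X) := by
    unfold mulQ
    simp
  have h2 := congrArg (fun z => z.hom.app (op U)) h1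
  exact ConcreteCategory.congr_hom h2 s

/-- Linearity of the connecting map. -/
theorem dlt_mulQ (r : Γ(X, ⊤)) (t : (cokernel (toGen X)).obj.obj (op (⊤ : X.Opens))) :
    dlt (toGen X) ((mulQ X r).hom.app (op ⊤) t) =
      Sheaf.H.map (Coh.smulAb (Coh.structureModule X) r) 1 (dlt (toGen X) t) :=
  dlt_naturality (toGen X) _ _ (toGen_mulGen X r) t

end Scheme

end Groth.Agent.Resolve.K112.CousinLin
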