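import Groth.Agent.Flat2C.StrictTr
import Groth.Agent.Divis.CartierStalk
import Groth.Agent.Divis.BlowUpFormal
import Groth.Agent.Dix.RegTwoDim
import Groth.Agent.Dix.PointIdeal
import Mathlib.RingTheory.OrderOfVanishing.Basic

/-!
# Strict transforms of closed subschemes
-/

set_option autoImplicit false
universe u

open CategoryTheory AlgebraicGeometry Limits TopologicalSpace

namespace Groth.Agent.Resolve.K112.CurvePt

open Groth.Agent.Flat2C.StrictTr Groth.Agent.Flat2C.StrictTrAlg
open Groth.Agent.Divis.CartierBasic Groth.Agent.Divis.CartierStalk Groth.Agent.Divis.EffCartier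
  Groth.Agent.Divis.IdealComap

section Strict

variable {X X' : Scheme.{u}}

/-- The ideal of the strict transform of `V(I)`: the closure of `b⁻¹(V(I)) ∖ V(E)`. -/
noncomputable def stIdeal (b : X' ⟶ X) (E : X'.IdealSheafData) (I : X.IdealSheafData) : X'.IdealSheafData :=
  Scheme.Hom.ker ((((I.comap b).subschemeι ⁻¹ᵁ E.support.compl).ι) ≫ (I.comap b).subschemeι)

theorem stIdeal_eq (b : X' ⟶ X) (E : X'.IdealSheafData) (I : X.IdealSheafData) :
    stIdeal b E I = (killedIdeal (E.comap (I.comap b).subschemeι)).map (I.comap b).subschemeι := by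
  unfold stIdeal killedIdeal
  rw [Scheme.Hom.ker_comp, compl_comap]
  rfl

/-- Near a point where `E` is generated by one element, a function `h` with `e h ∈ I` is in the strict transform. -/
theorem mem_stIdeal (b : X' ⟶ X) {E : X'.IdealSheafData} (hE : BlowUp.IsEffCartierIdeal E)
    (I : X.IdealSheafData) (V : X'.affineOpens) {e h : Γ(X', V.1)} (he : E.ideal V = Ideal.span {e})
    (hh : e * h ∈ (I.comap b).ideal V) : h ∈ (stIdeal b E I).ideal V := by
  rw [stIdeal_eq, Scheme.IdealSheafData.ideal_map_of_isAffineHom, Ideal.mem_comap]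
  set p := (I.comap b).subschemeι with hp
  have hft : BlowUp.IsFiniteTypeIdeal (E.comap p) :=
    ((isLocPrincipal_of_isEff hE).comap p).isFiniteTypeIdeal
  let V' : (I.comap b).subscheme.affineOpens := ⟨p ⁻¹ᵁ V.1, V.2.preimage p⟩
  change (p.app V.1).hom h ∈ (killedIdeal (E.comap p)).ideal V'
  rw [killedIdeal_ideal hft, mem_powTors]
  refine ⟨1, fun a ha => ?_⟩
  rw [pow_one, ideal_comap E p V V' le_rfl, he, Ideal.map_span, Set.image_singleton,
    Ideal.mem_span_singleton'] at ha
  obtain ⟨c, rfl⟩ := ha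
  have h1 : (p.appLE V.1 V'.1 le_rfl).hom e = (p.app V.1).hom e := by
    rw [Scheme.Hom.app_eq_appLE]
  have h2 : (p.app V.1).hom (e * h) = 0 := by
    have h3 : (I.comap b).ideal V = RingHom.ker (p.app V.1).hom := by
      have h4 := congrArg (fun J : X'.IdealSheafData => J.ideal V) (I.comap b).ker_subschemeι
      rw [Scheme.Hom.ker_apply] at h4
      exact h4.symm
    rw [h3] at hh
    exact hh
  rw [map_mul] at h2
  rw [h1]
  change (c * (p.app V.1).hom e) * (p.app V.1).hom h = 0
  rw [mul_assoc, h2, mul_zero]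

/-- `I O_{X'} ⊆ E I'`, `I'` the ideal of the strict transform. -/
theorem comap_le_mul_stIdeal (b : X' ⟶ X) {E : X'.IdealSheafData} (hE : BlowUp.IsEffCartierIdeal E)
    (I : X.IdealSheafData) (hI : I.comap b ≤ E) : I.comap b ≤ E * stIdeal b E I := by
  apply le_of_stalkIdeal
  intro x
  obtain ⟨V, hx, e, -, he⟩ := hE x
  rw [stalkIdeal_eq _ V hx, stalkIdeal_eq _ V hx]
  apply Ideal.map_mono
  intro f hf
  have h1 : f ∈ E.ideal V := hI V hf
  rw [he, Ideal.mem_span_singleton'] at h1
  obtain ⟨h, rfl⟩ := h1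
  have h2 : h ∈ (stIdeal b E I).ideal V := mem_stIdeal b hE I V he (by rwa [mul_comm])
  have h3 : e ∈ E.ideal V := by
    rw [he]
    exact Ideal.mem_span_singleton_self e
  rw [mul_comm h e, Scheme.IdealSheafData.ideal_mul]
  exact Ideal.mul_mem_mul h3 h2

/-- The strict transform of `V(I)` maps isomorphically to `V(I)` if the inverse image of the centre on `V(I)` is
effective Cartier. -/
theorem exists_iso {P : X.IdealSheafData} {b : X' ⟶ X} (hb : BlowUp.IsBlowUp b P) (I : X.IdealSheafData)
    (hP : BlowUp.IsEffCartierIdeal (P.comap I.subschemeι)) :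
    ∃ e : (stIdeal b (P.comap b) I).subscheme ≅ I.subscheme,
      e.hom ≫ I.subschemeι = (stIdeal b (P.comap b) I).subschemeι ≫ b := by
  let p₂ := (I.comap b).subschemeι
  let p₁ : (I.comap b).subscheme ⟶ I.subscheme := (I.comapIso b).hom ≫ pullback.snd b I.subschemeι
  have hsq : IsPullback p₂ p₁ b I.subschemeι := by
    have h := IsPullback.of_hasPullback b I.subschemeι
    refine IsPullback.of_iso h (I.comapIso b).symm (Iso.refl _) (Iso.refl _) (Iso.refl _) ?_ ?_ ?_ ?_
    · simp [p₂]
    · rw [Iso.symm_hom, Iso.refl_hom, Category.comp_id, Iso.inv_hom_id_assoc]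
    · simp
    · simp
  have hE : (P.comap I.subschemeι).comap p₁ = (P.comap b).comap p₂ := by
    rw [← Scheme.IdealSheafData.comap_comp, ← Scheme.IdealSheafData.comap_comp, hsq.w]
  have hft : BlowUp.IsFiniteTypeIdeal ((P.comap I.subschemeι).comap p₁) := by
    rw [hE]
    exact ((isLocPrincipal_of_isEff hb.1).comap p₂).isFiniteTypeIdeal
  set J := killedIdeal ((P.comap I.subschemeι).comap p₁) with hJ
  have hk := isKilledIdeal_killedIdeal hft
  have h1 := isBlowUp_strictTransform hb hsq.flip hk
  have h2 : IsIso (J.subschemeι ≫ p₁) := Divis.BlowUpFormal.isIso_of_isBlowUp_of_isEff h1 hP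
  have h3 : (J.subschemeι ≫ p₂).ker = stIdeal b (P.comap b) I := by
    rw [Scheme.Hom.ker_comp, Scheme.IdealSheafData.ker_subschemeι, stIdeal_eq, hJ, hE]
  -- the closed immersions with the same kernel
  have h4 : (stIdeal b (P.comap b) I).subschemeι.ker = (J.subschemeι ≫ p₂).ker := by
    rw [Scheme.IdealSheafData.ker_subschemeι, h3]
  let u := IsClosedImmersion.lift (J.subschemeι ≫ p₂) (stIdeal b (P.comap b) I).subschemeι h4.ge
  let v := IsClosedImmersion.lift (stIdeal b (P.comap b) I).subschemeι (J.subschemeι ≫ p₂) h4.le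
  have hu : u ≫ J.subschemeι ≫ p₂ = (stIdeal b (P.comap b) I).subschemeι := IsClosedImmersion.lift_fac _ _ _
  have hv : v ≫ (stIdeal b (P.comap b) I).subschemeι = J.subschemeι ≫ p₂ := IsClosedImmersion.lift_fac _ _ _
  let e : (stIdeal b (P.comap b) I).subscheme ≅ J.subscheme :=
    { hom := u
      inv := v
      hom_inv_id := by
        rw [← cancel_mono (stIdeal b (P.comap b) I).subschemeι, Category.assoc, hv, hu, Category.id_comp]
      inv_hom_id := by
        rw [← cancel_mono (J.subschemeι ≫ p₂), Category.assoc, hu, hv, Category.id_comp] }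
  refine ⟨e ≪≫ asIso (J.subschemeι ≫ p₁), ?_⟩
  rw [Iso.trans_hom, asIso_hom, Category.assoc, Category.assoc, ← hsq.w]
  change u ≫ J.subschemeι ≫ p₂ ≫ b = _
  rw [← Category.assoc J.subschemeι, ← Category.assoc, hu]

end Strict

section Alg

theorem length_quotient_lt {D : Type u} [CommRing D] {a a' : Ideal D} (h : a < a')
    (hfin : Module.length D (D ⧸ a) ≠ ⊤) : Module.length D (D ⧸ a') < Module.length D (D ⧸ a) := by
  let π : (D ⧸ a) →ₗ[D] (D ⧸ a') := Submodule.factor h.le
  have hπ : Function.Surjective π := Submodule.factor_surjective h.le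
  have h1 : Module.length D (D ⧸ a) = Module.length D (LinearMap.ker π) + Module.length D (D ⧸ a') :=
    Module.length_eq_add_of_exact (LinearMap.ker π).subtype π (LinearMap.ker π).injective_subtype hπ
      (LinearMap.exact_subtype_ker_map π)
  obtain ⟨x, hx', hx⟩ := Set.exists_of_ssubset h
  have h2 : Nontrivial (LinearMap.ker π) := by
    refine ⟨⟨⟨a.mkQ x, ?_⟩, 0, ?_⟩⟩
    · rw [LinearMap.mem_ker]
      exact (Submodule.Quotient.mk_eq_zero a').2 hx'
    · intro h3
      apply hx
      have h4 := congrArg Subtype.val h3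
      exact (Submodule.Quotient.mk_eq_zero a).1 h4
  have h3 : 0 < Module.length D (LinearMap.ker π) := Module.length_pos
  rw [h1] at hfin ⊢
  have h4 : Module.length D (D ⧸ a') ≠ ⊤ := fun h => hfin (by rw [h, add_top])
  have h5 := (ENat.add_lt_add_iff_right h4).2 h3
  rwa [zero_add] at h5

theorem length_lt_of_le_mul {D : Type u} [CommRing D] [IsDomain D] [IsLocalRing D] [IsNoetherianRing D]
    [Ring.KrullDimLE 1 D] {a a' : Ideal D} (ha : a ≠ ⊥) (h : a ≤ IsLocalRing.maximalIdeal D * a') :
    Module.length D (D ⧸ a') < Module.length D (D ⧸ a) := by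
  apply length_quotient_lt
  · refine lt_of_le_of_ne (h.trans Ideal.mul_le_right) ?_
    rintro rfl
    apply ha
    have h1 : a ≤ IsLocalRing.maximalIdeal D • a := h
    exact Submodule.eq_bot_of_le_smul_of_le_jacobson_bot _ a (IsNoetherian.noetherian a) h1
      (IsLocalRing.maximalIdeal_le_jacobson ⊥)
  · obtain ⟨x, hx, hx0⟩ := Submodule.exists_mem_ne_zero_of_ne_bot ha
    have h1 := isFiniteLength_quotient_span_singleton (R := D) (mem_nonZeroDivisors_of_ne_zero hx0)
    have h2 : Ideal.span {x} ≤ a := by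
      rw [Ideal.span_le, Set.singleton_subset_iff]
      exact hx
    rw [← Module.length_ne_top_iff] at h1
    exact ne_top_of_le_ne_top h1 (Module.length_le_of_surjective (Submodule.factor h2)
      (Submodule.factor_surjective h2))

theorem length_quotient_eq {R : Type u} [CommRing R] (I : Ideal R) :
    Module.length R (R ⧸ I) = Module.length (R ⧸ I) (R ⧸ I) :=
  Module.length_eq_of_surjective (S := R) (R := R ⧸ I) (M := R ⧸ I) Ideal.Quotient.mk_surjective

theorem length_ringEquiv {R S : Type u} [CommRing R] [CommRing S] (e : R ≃+* S) :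
    Module.length R R = Module.length S S := by
  let _ : Algebra R S := e.toRingHom.toAlgebra
  have h1 : Module.length R S = Module.length S S :=
    Module.length_eq_of_surjective (S := R) (R := S) (M := S) e.surjective
  rw [← h1]
  let e' : R ≃ₗ[R] S :=
    { e.toAddEquiv with
      map_smul' := fun a b => by
        change e (a * b) = e a * e b
        exact map_mul e a b }
  exact e'.length_eq

theorem length_map_of_surjective {R S : Type u} [CommRing R] [CommRing S] (φ : R →+* S)
    (hφ : Function.Surjective φ) (J : Ideal R) :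
    Module.length R (R ⧸ (RingHom.ker φ ⊔ J)) = Module.length S (S ⧸ J.map φ) := by
  rw [length_quotient_eq, length_quotient_eq]
  let ψ : R →+* S ⧸ J.map φ := (Ideal.Quotient.mk (J.map φ)).comp φ
  have hψ : Function.Surjective ψ := Ideal.Quotient.mk_surjective.comp hφ
  have hk : RingHom.ker ψ = RingHom.ker φ ⊔ J := by
    rw [sup_comm, ← Ideal.comap_map_of_surjective' φ hφ, ← RingHom.comap_ker, Ideal.mk_ker]
  exact length_ringEquiv ((Ideal.quotEquivOfEq hk.symm).trans (RingHom.quotientKerEquivOfSurjective hψ))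

end Alg

section Len

variable {Y X' : Scheme.{u}}

theorem length_stalk_quotient {X : Scheme.{u}} (I : X.IdealSheafData) (z : I.subscheme) :
    Module.length (X.presheaf.stalk (I.subschemeι z)) (X.presheaf.stalk (I.subschemeι z) ⧸
      stalkIdeal I (I.subschemeι z)) = Module.length (I.subscheme.presheaf.stalk z) (I.subscheme.presheaf.stalk z) := by
  rw [length_quotient_eq]
  exact length_ringEquiv (stalkQuotEquiv I z)

/-- The length of `V(K + J)` at a point of `V(K) = Y`, computed on `Y`. -/
theorem length_sup (σ : Y ⟶ X') [IsClosedImmersion σ] (y : Y) (K J : X'.IdealSheafData) (hK : σ.ker = K)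
    (q : (K ⊔ J).subscheme) (hq : (K ⊔ J).subschemeι q = σ y) :
    Module.length ((K ⊔ J).subscheme.presheaf.stalk q) ((K ⊔ J).subscheme.presheaf.stalk q) =
      Module.length (Y.presheaf.stalk y) (Y.presheaf.stalk y ⧸ stalkIdeal (J.comap σ) y) := by
  rw [← length_stalk_quotient]
  have key : ∀ x : X', x = σ y → Module.length (X'.presheaf.stalk x)
      (X'.presheaf.stalk x ⧸ stalkIdeal (K ⊔ J) x) =
      Module.length (Y.presheaf.stalk y) (Y.presheaf.stalk y ⧸ stalkIdeal (J.comap σ) y) := by
    rintro x rfl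
    rw [stalkIdeal_comap, stalkIdeal_sup, ← hK, ← ker_stalkMap σ y]
    exact length_map_of_surjective (σ.stalkMap y).hom (σ.stalkMap_surjective y) _
  exact key _ hq

end Len

section Point

variable {X : Scheme.{u}}

theorem stalkIdeal_map_stalkSpecializes (I : X.IdealSheafData) {x y : X} (h : y ⤳ x) :
    (stalkIdeal I x).map (X.presheaf.stalkSpecializes h).hom = stalkIdeal I y := by
  obtain ⟨U, hxU⟩ := exists_affine x
  rw [stalkIdeal_eq I U hxU, stalkIdeal_eq I U (h.mem_open U.1.2 hxU), Ideal.map_map,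
    ← CommRingCat.hom_comp, TopCat.Presheaf.germ_stalkSpecializes]

theorem topologicalKrullDim_of_isAffineOpen {X : Scheme.{u}} {V : X.Opens} (hV : IsAffineOpen V) :
    topologicalKrullDim (V : Set X) = ringKrullDim Γ(X, V) := by
  rw [← PrimeSpectrum.topologicalKrullDim_eq_ringKrullDim]
  change _ = topologicalKrullDim (Spec Γ(X, V))
  exact IsHomeomorph.topologicalKrullDim_eq _ hV.isoSpec.hom.homeomorph.isHomeomorph

theorem ringKrullDim_stalk_le (X : Scheme.{u}) (x : X) :
    ringKrullDim (X.presheaf.stalk x) ≤ topologicalKrullDim X := by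
  obtain ⟨V, hV, hx, -⟩ := exists_isAffineOpen_mem_and_subset (X := X) (x := x) (U := ⊤) trivial
  let := TopCat.Presheaf.algebra_section_stalk X.presheaf (⟨x, hx⟩ : V)
  have hloc : IsLocalization.AtPrime (X.presheaf.stalk x) (hV.primeIdealOf ⟨x, hx⟩).asIdeal :=
    hV.isLocalization_stalk ⟨x, hx⟩
  rw [IsLocalization.AtPrime.ringKrullDim_eq_height (hV.primeIdealOf ⟨x, hx⟩).asIdeal]
  refine (Ideal.height_le_ringKrullDim_of_ne_top (hV.primeIdealOf ⟨x, hx⟩).2.ne_top).trans ?_
  rw [← topologicalKrullDim_of_isAffineOpen hV]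
  exact topologicalKrullDim_subspace_le _ _

open Groth.Agent.Dix.PointIdeal in
theorem main (X : Scheme.{u}) [IsLocallyNoetherian X]
    (IY IZ : X.IdealSheafData) [IsIntegral IY.subscheme] (hdimY : topologicalKrullDim ↥IY.subscheme = 1)
    (p : X) (hp : IsClosed ({p} : Set X)) (hpY : p ∈ (IY.support : Set X)) (hpZ : p ∈ (IZ.support : Set X))
    (hgen : IY.subschemeι.base (genericPoint ↥IY.subscheme) ∉ (IZ.support : Set X))
    (hreg : ∀ y : ↥IY.subscheme, IY.subschemeι.base y = p → IsRegularLocalRing (IY.subscheme.presheaf.stalk y))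
    (X' : Scheme.{u}) (b : X' ⟶ X) (hb : BlowUp.IsBlowUp b (pt p hp)) :
    (∃ e : (stIdeal b ((pt p hp).comap b) IY).subscheme ≅ IY.subscheme,
      e.hom ≫ IY.subschemeι = (stIdeal b ((pt p hp).comap b) IY).subschemeι ≫ b) ∧
    (∃ q : X', {x : X' | x ∈ ((stIdeal b ((pt p hp).comap b) IY).support : Set X') ∧
          x ∈ (((pt p hp).comap b).support : Set X')} = {q} ∧
      (∀ q1 : ↥((stIdeal b ((pt p hp).comap b) IY) ⊔ (pt p hp).comap b).subscheme,
          ((stIdeal b ((pt p hp).comap b) IY) ⊔ (pt p hp).comap b).subschemeι.base q1 = q →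
          Module.length
            (((stIdeal b ((pt p hp).comap b) IY) ⊔ (pt p hp).comap b).subscheme.presheaf.stalk q1)
            (((stIdeal b ((pt p hp).comap b) IY) ⊔ (pt p hp).comap b).subscheme.presheaf.stalk q1) = 1) ∧
      (q ∈ ((stIdeal b ((pt p hp).comap b) IZ).support : Set X') →
        ∀ (q0 : ↥(IY ⊔ IZ).subscheme)
          (q1 : ↥((stIdeal b ((pt p hp).comap b) IY) ⊔ (stIdeal b ((pt p hp).comap b) IZ)).subscheme),
          (IY ⊔ IZ).subschemeι.base q0 = p →
          ((stIdeal b ((pt p hp).comap b) IY) ⊔ (stIdeal b ((pt p hp).comap b) IZ)).subschemeι.base q1 = q →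
          Module.length
            (((stIdeal b ((pt p hp).comap b) IY) ⊔ (stIdeal b ((pt p hp).comap b) IZ)).subscheme.presheaf.stalk q1)
            (((stIdeal b ((pt p hp).comap b) IY) ⊔ (stIdeal b ((pt p hp).comap b) IZ)).subscheme.presheaf.stalk q1) <
            Module.length ((IY ⊔ IZ).subscheme.presheaf.stalk q0) ((IY ⊔ IZ).subscheme.presheaf.stalk q0))) := by
  have hlN : IsLocallyNoetherian IY.subscheme := LocallyOfFiniteType.isLocallyNoetherian IY.subschemeι
  obtain ⟨y, hy⟩ := exists_subscheme_apply_eq IY hpY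
  have hinj : Function.Injective IY.subschemeι := IY.subschemeι.isEmbedding.injective
  have hyreg : IsRegularLocalRing (IY.subscheme.presheaf.stalk y) := hreg y hy
  -- `O_{Y,y}` is a discrete valuation ring
  have hdim : ringKrullDim (IY.subscheme.presheaf.stalk y) ≤ 1 :=
    (ringKrullDim_stalk_le _ _).trans hdimY.le
  have hpid := Groth.Agent.Dix.RegTwoDim.isPrincipalIdealRing _ hdim
  have hKD : Ring.KrullDimLE 1 (IY.subscheme.presheaf.stalk y) := by
    rw [Ring.KrullDimLE, Order.krullDimLE_iff]
    exact hdim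
  have ha0 : stalkIdeal (IZ.comap IY.subschemeι) y ≠ ⊥ := by
    intro h0
    have h1 := stalkIdeal_map_stalkSpecializes (IZ.comap IY.subschemeι)
      ((genericPoint_spec IY.subscheme).specializes (Set.mem_univ y))
    rw [h0, Ideal.map_bot] at h1
    have h2 : genericPoint IY.subscheme ∈ (IZ.comap IY.subschemeι).support := by
      rw [mem_support_iff_stalkIdeal_ne_top, ← h1]
      exact bot_ne_top
    apply hgen
    have h3 : genericPoint IY.subscheme ∈ ((IZ.comap IY.subschemeι).support : Set IY.subscheme) := h2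
    rw [Scheme.IdealSheafData.support_comap] at h3
    exact h3
  have ham : stalkIdeal (IZ.comap IY.subschemeι) y ≤ IsLocalRing.maximalIdeal _ := by
    rw [← mem_support_iff_stalkIdeal_le]
    change y ∈ ((IZ.comap IY.subschemeι).support : Set IY.subscheme)
    rw [Scheme.IdealSheafData.support_comap]
    change IY.subschemeι y ∈ (IZ.support : Set X)
    rw [hy]
    exact hpZ
  have hm0 : IsLocalRing.maximalIdeal (IY.subscheme.presheaf.stalk y) ≠ ⊥ := fun h =>
    ha0 (le_bot_iff.1 (ham.trans h.le))
  -- the inverse image of the point on `Y`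
  have hPy : stalkIdeal ((pt p hp).comap IY.subschemeι) y = IsLocalRing.maximalIdeal _ := by
    rw [stalkIdeal_comap]
    have key : ∀ x : X, x = p → stalkIdeal (pt p hp) x = IsLocalRing.maximalIdeal (X.presheaf.stalk x) := by
      rintro x rfl
      exact stalkIdeal_pt x hp
    rw [key _ hy]
    exact IsLocalRing.map_maximalIdeal_of_surjective _ (IY.subschemeι.stalkMap_surjective y)
  have hPeff : BlowUp.IsEffCartierIdeal ((pt p hp).comap IY.subschemeι) := by
    refine isEffCartierIdeal_of_stalkIdeal _ fun x hx => ?_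
    have h1 : x ∈ (((pt p hp).comap IY.subschemeι).support : Set IY.subscheme) := hx
    rw [Scheme.IdealSheafData.support_comap] at h1
    have h2 : IY.subschemeι x = p := (mem_support_pt p hp _).1 h1
    obtain rfl : x = y := hinj (h2.trans hy.symm)
    obtain ⟨t, ht⟩ := (IsPrincipalIdealRing.principal (IsLocalRing.maximalIdeal (IY.subscheme.presheaf.stalk x))).principal
    refine ⟨t, mem_nonZeroDivisors_of_ne_zero ?_, hPy.trans ht⟩
    rintro rfl
    apply hm0
    rw [ht]
    exact Submodule.span_zero_singleton _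
  have hex := exists_iso hb IY hPeff
  refine ⟨hex, ?_⟩
  set E := (pt p hp).comap b with hE
  set IY' := stIdeal b E IY with hIY'
  set IZ' := stIdeal b E IZ with hIZ'
  obtain ⟨e, he⟩ := hex
  let σ : IY.subscheme ⟶ X' := e.inv ≫ IY'.subschemeι
  have hσb : σ ≫ b = IY.subschemeι := by
    change (e.inv ≫ IY'.subschemeι) ≫ b = _
    rw [Category.assoc, ← he, Iso.inv_hom_id_assoc]
  have hσk : σ.ker = IY' := by
    change (e.inv ≫ IY'.subschemeι).ker = IY'
    rw [Scheme.Hom.ker_comp_of_isIso, Scheme.IdealSheafData.ker_subschemeι]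
  have hEσ : E.comap σ = (pt p hp).comap IY.subschemeι := by
    rw [hE, ← Scheme.IdealSheafData.comap_comp, hσb]
  refine ⟨σ y, ?_, fun q1 hq1 => ?_, fun _ q0 q1 hq0 hq1 => ?_⟩
  · ext x
    simp only [Set.mem_ofPred_eq, Set.mem_singleton_iff]
    constructor
    · rintro ⟨h1, h2⟩
      obtain ⟨z, rfl⟩ := exists_subscheme_apply_eq IY' h1
      rw [hE, Scheme.IdealSheafData.support_comap] at h2
      have h3 : b (IY'.subschemeι z) = p := (mem_support_pt p hp _).1 h2
      have h4 : IY.subschemeι (e.hom z) = p := by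
        rw [← Scheme.Hom.comp_apply, he, Scheme.Hom.comp_apply]
        exact h3
      have h5 : e.hom z = y := hinj (h4.trans hy.symm)
      have h6 : e.inv y = z := by
        rw [← h5, ← Scheme.Hom.comp_apply, Iso.hom_inv_id]
        rfl
      have h7 : σ y = IY'.subschemeι (e.inv y) := Scheme.Hom.comp_apply _ _ _
      rw [h7, h6]
    · rintro rfl
      refine ⟨subschemeι_mem_support IY' (e.inv y), ?_⟩
      rw [hE, Scheme.IdealSheafData.support_comap]
      change b (σ y) ∈ ((pt p hp).support : Set X)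
      rw [← Scheme.Hom.comp_apply, hσb, hy]
      exact (mem_support_pt p hp _).2 rfl
  · rw [length_sup σ y IY' E hσk q1 hq1, hEσ, hPy]
    have : IsSimpleModule (IY.subscheme.presheaf.stalk y)
        (IY.subscheme.presheaf.stalk y ⧸ IsLocalRing.maximalIdeal (IY.subscheme.presheaf.stalk y)) :=
      isSimpleModule_iff_quot_maximal.2 ⟨_, inferInstance, ⟨LinearEquiv.refl _ _⟩⟩
    exact Module.length_eq_one _ _
  · rw [length_sup σ y IY' IZ' hσk q1 hq1,
      length_sup IY.subschemeι y IY IZ IY.ker_subschemeι q0 (hq0.trans hy.symm)]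
    have h1 : IZ.comap b ≤ E := by
      rw [hE]
      refine (Scheme.IdealSheafData.comap_mono b) ?_
      rw [← Scheme.IdealSheafData.le_support_iff_le_vanishingIdeal]
      rintro z hz
      obtain rfl : z = p := hz
      exact hpZ
    have h2 : IZ.comap b ≤ E * IZ' := comap_le_mul_stIdeal b hb.1 IZ h1
    have h3 : IZ.comap IY.subschemeι ≤ (E.comap σ) * (IZ'.comap σ) := by
      rw [← comap_mul, ← hσb, Scheme.IdealSheafData.comap_comp]
      exact (Scheme.IdealSheafData.comap_mono σ) h2
    refine length_lt_of_le_mul ha0 ?_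
    have h4 := stalkIdeal_mono h3 y
    rw [stalkIdeal_mul, hEσ, hPy] at h4
    exact h4

end Point

end Groth.Agent.Resolve.K112.CurvePt
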