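import Groth.Agent.Lipman.BoundMain
import Groth.Agent.Lipman.BoundV1
import Groth.Agent.Lipman.BoundV2H
import Groth.Agent.Lipman.BoundV3W
import Groth.Agent.Lipman.ValGR
import Groth.Agent.Ega4B.NagBasic
import Groth.Agent.CalgB.PowSer

/-!
# The module `W(A)`: the colimit of `H^1(X, O_X)` over all normal modifications `X` of `Spec A`

`A` a ring, `K` a field over `A`.  `W(A)` is the `A`-module of functions on the Zariski-Riemann space of `A` (values
in `K`) which are constant modulo integral elements on the charts of some blow-up, modulo the globally constant ones.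

* `isFiniteLength_torsionBy` : `W(A)[e]` has finite length for `e ≠ 0` (`A` a normal Nagata local domain of dimension 2).
* `isFiniteLength_of_complete` : `W(A)` has finite length if `A` is complete.
-/

set_option autoImplicit false
universe u

open IsLocalRing Submodule

namespace Groth.Agent.Resolve.K112.WM

open Groth.Agent.Lipman.Defs Groth.Agent.Lipman.ZRD158 Groth.Agent.Lipman.BoundAlg Groth.Agent.Lipman.BoundMain

section Transport

variable {A R : Type*} [CommRing A] [CommRing R] {M M' : Type*} [AddCommGroup M] [Module R M] [AddCommGroup M']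
  [Module A M']

/-- Finite length along an injective semilinear map. -/
theorem isFiniteLength_of_injective (σ : A →+* R) [RingHomSurjective σ] (f : M' →ₛₗ[σ] M)
    (hf : Function.Injective f) (h : IsFiniteLength R M) : IsFiniteLength A M' := by
  rw [isFiniteLength_iff_isNoetherian_isArtinian] at h ⊢
  obtain ⟨h1, h2⟩ := h
  have hmono : StrictMono (Submodule.map f) := Submodule.map_strictMono_of_injective hf
  exact ⟨isNoetherian_iff'.2 (hmono.wellFoundedGT (β := Submodule R M)), hmono.wellFoundedLT (β := Submodule R M)⟩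

end Transport

section Alg

variable {A : Type*} [CommRing A] [IsLocalRing A] [IsNoetherianRing A] {W : Type*} [AddCommGroup W]
  [Module A W]

/-- `W[e]` has finite length for nonzero `e`. -/
theorem isFiniteLength_torsionBy_of_kill [IsDomain A]
    (hdim : ringKrullDim A = 2)
    (hsoc : ∀ n : ℕ, IsFiniteLength A (tors W (maximalIdeal A ^ n)))
    (hp : ∀ p : Ideal A, p.IsPrime → p ≠ ⊥ → p ≠ maximalIdeal A →
      ∃ s ∉ p, ∀ w : W, (∀ a ∈ p, a • w = 0) → s • w = 0) (e : A) (he : e ≠ 0) :
    IsFiniteLength A (torsionBy A W e) := by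
  have hht : (maximalIdeal A).height = 2 := by
    have := IsLocalRing.maximalIdeal_height_eq_ringKrullDim (R := A)
    rw [hdim] at this
    exact WithBot.coe_injective this
  -- primes strictly between
  have hmid : ∀ p q : Ideal A, p.IsPrime → q.IsPrime → p ≠ ⊥ → p < q → q = maximalIdeal A := by
    intro p q hpp hqp hp0 hpq
    by_contra hqm
    have h1 : (⊥ : Ideal A).height < p.height :=
      Ideal.height_strict_mono_of_isPrime_of_isPrime (bot_lt_iff_ne_bot.2 hp0)
    have h2 : p.height < q.height := Ideal.height_strict_mono_of_isPrime_of_isPrime hpq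
    have h3 : q.height < (maximalIdeal A).height :=
      Ideal.height_strict_mono_of_isPrime_of_isPrime (lt_of_le_of_ne (IsLocalRing.le_maximalIdeal hqp.ne_top) hqm)
    rw [hht] at h3
    have h4 : 1 ≤ p.height := Order.one_le_iff_pos.2 (pos_of_gt h1)
    have h5 : 2 ≤ q.height := by
      have : (1 : ℕ∞) + 1 ≤ q.height := Order.add_one_le_of_lt (lt_of_le_of_lt h4 h2)
      rwa [one_add_one_eq_two] at this
    exact absurd h3 (not_lt.2 h5)
  have hprime : ∀ p : Ideal A, p.IsPrime → p ≠ ⊥ → IsFiniteLength A (tors W p) := by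
    intro p hpp hp0
    by_cases hpm : p = maximalIdeal A
    · have := hsoc 1
      rw [pow_one] at this
      rw [hpm]
      exact this
    obtain ⟨s, hs, hkill⟩ := hp p hpp hp0 hpm
    have hrad : maximalIdeal A ≤ (p ⊔ Ideal.span {s}).radical := by
      rw [Ideal.radical_eq_sInf]
      refine le_sInf ?_
      rintro q ⟨hq, hqp⟩
      have hpq : p < q := by
        refine lt_of_le_of_ne (le_sup_left.trans hq) ?_
        rintro rfl
        exact hs (hq (Ideal.mem_sup_right (Ideal.mem_span_singleton_self s)))
      rw [hmid p q hpp hqp hp0 hpq]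
    obtain ⟨n, hn⟩ := Ideal.exists_pow_le_of_le_radical_of_fg hrad (IsNoetherian.noetherian _)
    refine isFiniteLength_of_le ?_ (hsoc n)
    intro w hw
    rw [mem_tors] at hw ⊢
    intro a ha
    obtain ⟨b, hb, c, hc, rfl⟩ := Submodule.mem_sup.1 (hn ha)
    obtain ⟨d, rfl⟩ := Ideal.mem_span_singleton'.1 hc
    rw [add_smul, hw b hb, mul_smul, hkill w hw, smul_zero, add_zero]
  have hnf : ¬ IsField A := by
    intro hf
    rw [ringKrullDim_eq_zero_of_isField hf] at hdim
    exact absurd hdim (by decide)
  obtain ⟨Z, hZ, hZ0⟩ := PrimeSpectrum.exists_primeSpectrum_prod_le_and_ne_bot_of_domain hnf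
    (I := Ideal.span {e}) (by rwa [Ne, Ideal.span_singleton_eq_bot])
  rw [← tors_span_singleton]
  refine isFiniteLength_of_le (tors_le hZ) (tors_multiset_prod Z fun p hpZ => hprime _ p.2 ?_)
  intro h0
  apply hZ0
  obtain ⟨Z', rfl⟩ := Multiset.exists_cons_of_mem hpZ
  rw [Multiset.map_cons, Multiset.prod_cons, h0, Ideal.bot_mul]

end Alg

section SubringCase

variable {K : Type u} [Field K] (R : Subring K) [IsLocalRing R] [IsNoetherianRing R] [IsIntegrallyClosed R]
  [IsFractionRing R K]

theorem isFiniteLength_torsionBy_WMod (hN : CAlg.IsNagata R) (hdim : ringKrullDim R = 2) (e : R) (he : e ≠ 0) :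
    IsFiniteLength R (torsionBy R (WMod R) e) := by
  have hGR := Groth.Agent.Lipman.ValGR.grProp R (Groth.Agent.Lipman.NagataIn.finNorm_of_isNagata hN)
    (by rw [hdim]; exact_mod_cast Nat.one_lt_two)
  refine isFiniteLength_torsionBy_of_kill hdim (Groth.Agent.Lipman.BoundV3W.isFiniteLength_tors_WMod hdim hGR)
    (fun p hp hp0 hpm ↦ ?_) e he
  obtain ⟨s, hs, hk⟩ := Groth.Agent.Lipman.BoundV2H.h2 hN hdim.le hGR p hp hp0 hpm
  refine ⟨s, hs, fun w hw ↦ ?_⟩
  obtain ⟨φ, hφ, rfl⟩ := cls_surjective w
  exact (smul_cls_eq_zero_iff s).2 (hk φ hφ fun a ha ↦ (smul_cls_eq_zero_iff a).1 (hw a ha))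

theorem isFiniteLength_WMod_of_complete [IsAdicComplete (maximalIdeal R) R] (hdim : ringKrullDim R = 2) :
    IsFiniteLength R (WMod R) := by
  have hN := Groth.Agent.Lipman.NagataIn.isNagata_of_complete R
  have hGR := Groth.Agent.Lipman.ValGR.grProp R (Groth.Agent.Lipman.NagataIn.finNorm_of_isNagata hN)
    (by rw [hdim]; exact_mod_cast Nat.one_lt_two)
  refine isFiniteLength_of_kill hdim (fun w ↦ ?_) (Groth.Agent.Lipman.BoundV3W.isFiniteLength_tors_WMod hdim hGR)
    (fun p hp hp0 hpm ↦ ?_)
  · obtain ⟨φ, hφ, rfl⟩ := cls_surjective w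
    obtain ⟨n, hn⟩ := Groth.Agent.Lipman.BoundV1.exists_pow_triv hdim.le hφ
    exact ⟨n, fun a ha ↦ (smul_cls_eq_zero_iff a).2 (hn a ha)⟩
  · obtain ⟨s, hs, hk⟩ := Groth.Agent.Lipman.BoundV2H.h2 hN hdim.le hGR p hp hp0 hpm
    refine ⟨s, hs, fun w hw ↦ ?_⟩
    obtain ⟨φ, hφ, rfl⟩ := cls_surjective w
    exact (smul_cls_eq_zero_iff s).2 (hk φ hφ fun a ha ↦ (smul_cls_eq_zero_iff a).1 (hw a ha))

end SubringCase

section Main

variable (A : Type u) [CommRing A] (K : Type u) [Field K] [Algebra A K]

/-- The image of `A` in `K`. -/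
abbrev im : Subring K := (algebraMap A K).range

/-- Functions which are constant modulo integral elements on the charts of some blow-up. -/
def DA : Submodule A (ValuationSubring K → K) where
  carrier := D (im A K)
  add_mem' h h' := add_mem_D h h'
  zero_mem' := const_mem_D 0
  smul_mem' a φ h := by
    have h1 := smul_mem_D (R := im A K) (r := algebraMap A K a) (fun _ hV ↦ mem_of_mem_ZR hV ⟨a, rfl⟩) h
    convert h1 using 1
    funext V
    exact Algebra.smul_def a (φ V)

/-- Globally constant functions. -/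
def TA : Submodule A (ValuationSubring K → K) where
  carrier := {φ | IsTriv (im A K) φ}
  add_mem' := by
    intro a b ha hb
    rw [Set.mem_ofPred_eq, ← isConst_one_iff] at *
    exact ha.add hb
  zero_mem' := ⟨0, fun V _ ↦ by
    rw [Pi.zero_apply, sub_zero]
    exact V.zero_mem⟩
  smul_mem' := by
    intro r b hb
    rw [Set.mem_ofPred_eq, ← isConst_one_iff] at *
    have h1 := hb.smul (r := algebraMap A K r) (fun _ hV ↦ mem_of_mem_ZR (R := im A K) hV ⟨r, rfl⟩)
    convert h1 using 1
    funext V
    exact Algebra.smul_def r (b V)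

/-- `W(A)`. -/
abbrev WA : Type u := ↥(DA A K) ⧸ (TA A K).comap (DA A K).subtype

variable {A K}

theorem mem_DA {φ : ValuationSubring K → K} : φ ∈ DA A K ↔ φ ∈ D (im A K) := Iff.rfl

theorem mem_TA {φ : ValuationSubring K → K} : φ ∈ TA A K ↔ IsTriv (im A K) φ := Iff.rfl

theorem TA_le_DA : TA A K ≤ DA A K := fun _ h ↦ IsTriv.mem_D h

variable (A K)

/-- The comparison with the module attached to the subring `im A K`. -/
noncomputable def toWMod : WA A K →ₛₗ[(algebraMap A K).rangeRestrict] WMod (im A K) :=
  Submodule.mapQ _ _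
    { toFun := fun φ ↦ (⟨φ.1, φ.2⟩ : DMod (im A K))
      map_add' := fun _ _ ↦ rfl
      map_smul' := fun a φ ↦ Subtype.ext (funext fun V ↦ Algebra.smul_def a (φ.1 V)) }
    (fun _ h ↦ h)

theorem toWMod_injective : Function.Injective (toWMod A K) := by
  rw [injective_iff_map_eq_zero]
  intro w hw
  obtain ⟨φ, rfl⟩ := Submodule.Quotient.mk_surjective _ w
  rw [Submodule.Quotient.mk_eq_zero]
  rw [toWMod, Submodule.mapQ_apply, Submodule.Quotient.mk_eq_zero] at hw
  exact hw

instance : RingHomSurjective (algebraMap A K).rangeRestrict := ⟨(algebraMap A K).rangeRestrict_surjective⟩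

variable [IsFractionRing A K]

/-- `A` is isomorphic to its image in `K`. -/
noncomputable def imEquiv : A ≃+* im A K :=
  RingEquiv.ofBijective (algebraMap A K).rangeRestrict
    ⟨fun _ _ h ↦ IsFractionRing.injective A K (congrArg Subtype.val h), (algebraMap A K).rangeRestrict_surjective⟩

theorem imEquiv_apply (a : A) : (imEquiv A K a : K) = algebraMap A K a := rfl

instance isFractionRing_im : IsFractionRing (im A K) K := by
  have : IsDomain A := (IsFractionRing.injective A K).isDomain _
  refine Groth.Agent.Lipman.NagataIn.isFractionRing_of_forall _ fun z ↦ ?_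
  obtain ⟨x, y, hy, rfl⟩ := IsFractionRing.div_surjective (A := A) z
  exact ⟨_, ⟨x, rfl⟩, _, ⟨y, rfl⟩, IsFractionRing.to_map_ne_zero_of_mem_nonZeroDivisors hy, rfl⟩

variable [IsLocalRing A] [IsNoetherianRing A] [IsIntegrallyClosed A]

instance : IsLocalRing (im A K) := (imEquiv A K).isLocalRing

instance : IsNoetherianRing (im A K) := isNoetherianRing_of_ringEquiv A (imEquiv A K)

instance : IsIntegrallyClosed (im A K) := IsIntegrallyClosed.of_equiv (imEquiv A K)

/-- `W(A)[e]` has finite length for `e ≠ 0`. -/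
theorem isFiniteLength_torsionBy (hN : CAlg.IsNagata A) (hdim : ringKrullDim A = 2) (e : A) (he : e ≠ 0) :
    IsFiniteLength A (torsionBy A (WA A K) e) := by
  have h1 := isFiniteLength_torsionBy_WMod (im A K)
    (Groth.Agent.Ega4B.NagBasic.isNagata_of_ringEquiv (imEquiv A K) hN)
    ((ringKrullDim_eq_of_ringEquiv (imEquiv A K)).symm.trans hdim) (imEquiv A K e)
    ((map_ne_zero_iff _ (imEquiv A K).injective).2 he)
  refine isFiniteLength_of_injective (algebraMap A K).rangeRestrict
    (LinearMap.codRestrict (torsionBy (im A K) (WMod (im A K)) (imEquiv A K e))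
      ((toWMod A K).comp (torsionBy A (WA A K) e).subtype) fun w ↦ ?_) ?_ h1
  · rw [mem_torsionBy_iff]
    have h2 := (mem_torsionBy_iff _ _).1 w.2
    have h3 := (toWMod A K).map_smulₛₗ e w.1
    rw [h2, map_zero] at h3
    exact h3.symm
  · intro x y hxy
    exact Subtype.ext (toWMod_injective A K (congrArg Subtype.val hxy))

/-- `W(A)` has finite length if `A` is complete. -/
theorem isFiniteLength_of_complete [IsAdicComplete (maximalIdeal A) A] (hdim : ringKrullDim A = 2) :
    IsFiniteLength A (WA A K) := by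
  have : IsAdicComplete (maximalIdeal (im A K)) (im A K) :=
    Groth.Agent.CalgB.PowSer.isAdicComplete_maximalIdeal_of_ringEquiv (imEquiv A K)
  exact isFiniteLength_of_injective (algebraMap A K).rangeRestrict (toWMod A K) (toWMod_injective A K)
    (isFiniteLength_WMod_of_complete (im A K) ((ringKrullDim_eq_of_ringEquiv (imEquiv A K)).symm.trans hdim))

end Main

end Groth.Agent.Resolve.K112.WM
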