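import Groth.Agent.Resolve.K112.CousinLin
import Groth.Agent.Resolve.K112.WMod
import Groth.Agent.Lipman.QCDict679
import Groth.Agent.CurvesC.ValData

/-!
# `H^1(X, O_X)` for a proper normal birational `X → Spec A` as a submodule of `W(A)`
-/

set_option autoImplicit false
universe u
open CategoryTheory CategoryTheory.Limits AlgebraicGeometry TopologicalSpace Opposite

namespace Groth.Agent.Resolve.K112.Dict

open Groth.Agent.CurvesC Groth.Agent.CurvesC.ModDim Groth.Agent.CurvesC.Cousin CousinLin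
open Groth.Agent.Lipman.Defs Groth.Agent.Lipman.ZRD158 WM

variable {A : Type u} [CommRing A] {X : Scheme.{u}} [IsIntegral X] (f : X ⟶ Spec (CommRingCat.of A))
  {K : Type u} [Field K] [Algebra A K] (e : K ≃+* X.functionField)

/-- A valuation ring of `K` as a valuation ring of the function field. -/
noncomputable def pullV (V : ValuationSubring K) : ValuationSubring X.functionField :=
  V.comap (e.symm : X.functionField →+* K)

theorem mem_pullV {V : ValuationSubring K} {x : X.functionField} : x ∈ pullV e V ↔ e.symm x ∈ V := Iff.rfl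

theorem apply_mem_pullV {V : ValuationSubring K} {x : K} : e x ∈ pullV e V ↔ x ∈ V := by
  rw [mem_pullV, RingEquiv.symm_apply_apply]

/-- `V` is centred on `W`. -/
def Cen (W : X.Opens) (V : ValuationSubring K) : Prop :=
  ∃ hη : genericPoint X ∈ W, ∀ s : Γ(X, W), X.presheaf.germ W (genericPoint X) hη s ∈ pullV e V

theorem Cen.mono {W W' : X.Opens} (h : W' ≤ W) {V : ValuationSubring K} (hc : Cen e W' V) : Cen e W V := by
  obtain ⟨hη, h1⟩ := hc
  refine ⟨h hη, fun s ↦ ?_⟩
  rw [← X.presheaf.germ_res_apply (homOfLE h) (genericPoint X) hη]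
  exact h1 _

variable {e} in
theorem Cen.mem_ZR (he : ∀ a, e (algebraMap A K a) = ValData.toK f a) {W : X.Opens} {V : ValuationSubring K}
    (hc : Cen e W V) : V ∈ ZR (im A K) := by
  obtain ⟨hη, h1⟩ := hc
  rintro _ ⟨a, rfl⟩
  have h2 := h1 (toSec f W a)
  rw [ValData.germ_toSec, ← he, apply_mem_pullV] at h2
  exact h2

theorem toK_mem (he : ∀ a, e (algebraMap A K a) = ValData.toK f a) {V : ValuationSubring K}
    (hV : V ∈ ZR (im A K)) (a : A) : ValData.toK f a ∈ pullV e V := by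
  rw [← he, apply_mem_pullV]
  exact hV ⟨a, rfl⟩

/-- `φ` is equal to `g` modulo integral elements on `W`. -/
def OkAt (φ : ValuationSubring K → K) (W : X.Opens) (g : K) : Prop := ∀ V, Cen e W V → φ V - g ∈ V

variable {e} in
theorem OkAt.mono {φ : ValuationSubring K → K} {W W' : X.Opens} {g : K} (h : OkAt e φ W g) (h' : W' ≤ W) :
    OkAt e φ W' g := fun V hV ↦ h V (hV.mono e h')

/-- The functions which are locally constant on `X`. -/
def LC (φ : ValuationSubring K → K) : Prop :=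
  ∀ x : X, ∃ (W : X.Opens) (g : K), x ∈ W ∧ IsAffineOpen W ∧ OkAt e φ W g

/-- The locally constant functions as a submodule. -/
def DX (he : ∀ a, e (algebraMap A K a) = ValData.toK f a) : Submodule A (ValuationSubring K → K) where
  carrier := {φ | LC e φ}
  add_mem' := by
    intro φ ψ hφ hψ x
    obtain ⟨W, g, hx, hW, h⟩ := hφ x
    obtain ⟨W', g', hx', hW', h'⟩ := hψ x
    obtain ⟨W'', hW'', hxW'', hle⟩ := exists_isAffineOpen_mem_and_subset (X := X) (U := W ⊓ W') ⟨hx, hx'⟩
    refine ⟨W'', g + g', hxW'', hW'', fun V hV ↦ ?_⟩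
    rw [Pi.add_apply, add_sub_add_comm]
    exact V.add_mem _ _ (h V (hV.mono e (hle.trans inf_le_left))) (h' V (hV.mono e (hle.trans inf_le_right)))
  zero_mem' := by
    intro x
    obtain ⟨W'', hW'', hxW'', -⟩ := exists_isAffineOpen_mem_and_subset (X := X) (U := ⊤) (x := x) trivial
    refine ⟨W'', 0, hxW'', hW'', fun V hV ↦ ?_⟩
    rw [Pi.zero_apply, sub_zero]
    exact V.zero_mem
  smul_mem' := by
    intro a φ hφ x
    obtain ⟨W, g, hx, hW, h⟩ := hφ x
    refine ⟨W, algebraMap A K a * g, hx, hW, fun V hV ↦ ?_⟩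
    rw [Pi.smul_apply, Algebra.smul_def, ← mul_sub]
    exact V.mul_mem _ _ (hV.mem_ZR f he ⟨a, rfl⟩) (h V hV)

/-! ### The section of the sheaf of Cousin data attached to a locally constant function -/

/-- The Cousin datum on `W` given by a constant. -/
noncomputable def cs (W : X.Opens) (a : X.functionField) : (cokernel (toGen X)).obj.obj (op W) :=
  (cokernel.π (toGen X)).hom.app (op W) (cst W a)

/-- restriction of sections of the sheaf of Cousin data. -/
noncomputable def rQ {W W' : X.Opens} (h : W' ≤ W) :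
    (cokernel (toGen X)).obj.obj (op W) →+ (cokernel (toGen X)).obj.obj (op W') :=
  ((cokernel (toGen X)).obj.map (homOfLE h).op).hom

theorem rQ_rQ {W W' W'' : X.Opens} (h : W' ≤ W) (h' : W'' ≤ W') (t : (cokernel (toGen X)).obj.obj (op W)) :
    rQ h' (rQ h t) = rQ (h'.trans h) t := by
  unfold rQ
  have h1 := (cokernel (toGen X)).obj.map_comp (homOfLE h).op (homOfLE h').op
  have h2 := ConcreteCategory.congr_hom h1 t
  exact h2.symm

theorem rQ_cs {W W' : X.Opens} (h : W' ≤ W) (a : X.functionField) : rQ h (cs W a) = cs W' a :=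
  (NatTrans.naturality_apply (cokernel.π (toGen X)).hom (homOfLE h).op (cst (X := X.toPresheafedSpace.carrier) W a)).symm

theorem cs_sub (W : X.Opens) (a b : X.functionField) : cs W (a - b) = cs W a - cs W b :=
  map_sub ((cokernel.π (toGen X)).hom.app (op W)).hom (cst W a) (cst W b)

theorem cs_add (W : X.Opens) (a b : X.functionField) : cs W (a + b) = cs W a + cs W b :=
  map_add ((cokernel.π (toGen X)).hom.app (op W)).hom (cst W a) (cst W b)

theorem cs_eq_cs_of_germ {W : X.Opens} {a b : X.functionField} (hη : genericPoint X ∈ W) (s : Γ(X, W))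
    (hs : X.presheaf.germ W (genericPoint X) hη s = a - b) : cs W a = cs W b := by
  rw [← sub_eq_zero, ← cs_sub]
  unfold cs
  refine Eq.trans (congrArg _ ?_) (π_app_app (toGen X) W s)
  funext h
  exact hs.symm

theorem exists_germ_of_cs_eq {W : X.Opens} {a b : X.functionField} (hη : genericPoint X ∈ W)
    (h : cs W a = cs W b) : ∃ s : Γ(X, W), X.presheaf.germ W (genericPoint X) hη s = a - b := by
  rw [← sub_eq_zero, ← cs_sub] at h
  obtain ⟨s, hs⟩ := exists_of_π_eq_zero (toGen X) W (cst W (a - b)) h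
  exact ⟨s, congrFun hs ⟨hη⟩⟩

/-- locality for sections of the sheaf of Cousin data. -/
theorem eq_of_locally (t t' : (cokernel (toGen X)).obj.obj (op (⊤ : X.Opens)))
    (h : ∀ x : X, ∃ W : X.Opens, x ∈ W ∧ rQ (le_top : W ≤ ⊤) t = rQ (le_top : W ≤ ⊤) t') : t = t' := by
  choose W hW h' using h
  refine TopCat.Sheaf.eq_of_locally_eq' (C := AddCommGrpCat.{u})
    (show TopCat.Sheaf AddCommGrpCat.{u} X.toPresheafedSpace.carrier from (cokernel (toGen X))) W ⊤
    (fun i => homOfLE le_top) ?_ _ _ h'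
  intro x _
  exact Opens.mem_iSup.mpr ⟨x, hW x⟩

/-- gluing of constants. -/
theorem exists_glue {ι : Type u} (W : ι → X.Opens) (a : ι → X.functionField)
    (hcov : ∀ x : X, ∃ i, x ∈ W i) (h : ∀ i j, cs (W i ⊓ W j) (a i) = cs (W i ⊓ W j) (a j)) :
    ∃ t : (cokernel (toGen X)).obj.obj (op (⊤ : X.Opens)), ∀ i, rQ (le_top : W i ≤ ⊤) t = cs (W i) (a i) := by
  obtain ⟨t, ht, -⟩ := TopCat.Sheaf.existsUnique_gluing' (C := AddCommGrpCat.{u})
    (show TopCat.Sheaf AddCommGrpCat.{u} X.toPresheafedSpace.carrier from (cokernel (toGen X))) W ⊤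
    (fun i => homOfLE le_top) (fun x _ ↦ Opens.mem_iSup.mpr (hcov x)) (fun i => cs (W i) (a i)) (by
      intro i j
      refine (rQ_cs (inf_le_left : W i ⊓ W j ≤ W i) (a i)).trans ?_
      refine Eq.trans ?_ (rQ_cs (inf_le_right : W i ⊓ W j ≤ W j) (a j)).symm
      exact h i j)
  exact ⟨t, ht⟩

/-- every section is locally constant. -/
theorem exists_local (t : (cokernel (toGen X)).obj.obj (op (⊤ : X.Opens))) (x : X) :
    ∃ (W : X.Opens) (a : X.functionField), x ∈ W ∧ IsAffineOpen W ∧ rQ (le_top : W ≤ ⊤) t = cs W a := by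
  have hepi : Epi (cokernel.π (toGen X)) := inferInstance
  have h1 := (TopCat.Sheaf.isLocallySurjective_iff_epi (cokernel.π (toGen X))).mpr hepi
  obtain ⟨V, hV, ⟨g, hg⟩, hxV⟩ := (TopCat.Presheaf.isLocallySurjective_iff (C := AddCommGrpCat.{u})
    (X := X.toPresheafedSpace.carrier) (cokernel.π (toGen X)).hom).mp h1 ⊤ t x trivial
  obtain ⟨W, hW, hxW, hWV⟩ := exists_isAffineOpen_mem_and_subset (U := V) hxV
  have hη := mem_of_nonempty X W x hxW
  refine ⟨W, g ⟨hWV hη⟩, hxW, hW, ?_⟩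
  have h2 : cst W (g ⟨hWV hη⟩) = (genSheaf (X := X) (genericPoint X) X.functionField).obj.map
      (homOfLE hWV).op g := by
    funext h
    rfl
  unfold cs
  rw [h2]
  refine Eq.trans ?_ (NatTrans.naturality_apply (cokernel.π (toGen X)).hom (homOfLE hWV).op g).symm
  rw [hg]
  refine Eq.trans ?_ (ConcreteCategory.comp_apply _ _ _)
  rw [← Functor.map_comp]
  rfl

/-- `t` is the section attached to `φ`. -/
def IsSec (φ : ValuationSubring K → K) (t : (cokernel (toGen X)).obj.obj (op (⊤ : X.Opens))) : Prop :=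
  ∀ x : X, ∃ (W : X.Opens) (g : K), x ∈ W ∧ IsAffineOpen W ∧ OkAt e φ W g ∧
    rQ (le_top : W ≤ ⊤) t = cs W (e g)

variable {e} in
theorem IsSec.add {φ ψ : ValuationSubring K → K} {t t' : (cokernel (toGen X)).obj.obj (op (⊤ : X.Opens))}
    (h : IsSec e φ t) (h' : IsSec e ψ t') : IsSec e (φ + ψ) (t + t') := by
  intro x
  obtain ⟨W, g, hx, hW, h1, h2⟩ := h x
  obtain ⟨W', g', hx', hW', h1', h2'⟩ := h' x
  obtain ⟨W'', hW'', hxW'', hle⟩ := exists_isAffineOpen_mem_and_subset (X := X) (U := W ⊓ W') ⟨hx, hx'⟩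
  refine ⟨W'', g + g', hxW'', hW'', fun V hV ↦ ?_, ?_⟩
  · rw [Pi.add_apply, add_sub_add_comm]
    exact V.add_mem _ _ (h1 V (hV.mono e (hle.trans inf_le_left))) (h1' V (hV.mono e (hle.trans inf_le_right)))
  · rw [map_add, map_add, cs_add, ← rQ_cs (hle.trans inf_le_left : W'' ≤ W), ← h2,
      ← rQ_cs (hle.trans inf_le_right : W'' ≤ W'), ← h2', rQ_rQ, rQ_rQ]

theorem germ_mulQ (r : Γ(X, ⊤)) {W : X.Opens} (a : X.functionField) :
    (mulQ X r).hom.app (op W) (cs W a) = cs W (X.presheaf.germ ⊤ (genericPoint X) trivial r * a) :=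
  mulQ_π X r W (cst W a)

theorem rQ_mulQ (r : Γ(X, ⊤)) {W : X.Opens} (t : (cokernel (toGen X)).obj.obj (op (⊤ : X.Opens))) :
    rQ (le_top : W ≤ ⊤) ((mulQ X r).hom.app (op ⊤) t) = (mulQ X r).hom.app (op W) (rQ (le_top : W ≤ ⊤) t) :=
  (NatTrans.naturality_apply (mulQ X r).hom (homOfLE (le_top : W ≤ ⊤)).op t).symm

theorem germ_toGlobal (a : A) : X.presheaf.germ ⊤ (genericPoint X) trivial (Coh.toGlobal f a) = ValData.toK f a := by
  have h1 := ValData.germ_toSec f ⊤ trivial a
  rw [← h1]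
  congr 1
  have h3 : ∀ s : Γ(X, ⊤), rs (le_top : (⊤ : X.Opens) ≤ ⊤) s = s := fun s => by
    unfold rs
    have : (homOfLE (le_top : (⊤ : X.Opens) ≤ ⊤)) = 𝟙 _ := rfl
    rw [this, op_id, X.presheaf.map_id]
    rfl
  exact (h3 _).symm

variable {e} in
theorem IsSec.smul (he : ∀ a, e (algebraMap A K a) = ValData.toK f a) {φ : ValuationSubring K → K}
    {t : (cokernel (toGen X)).obj.obj (op (⊤ : X.Opens))} (h : IsSec e φ t) (a : A) :
    IsSec e (a • φ) ((mulQ X (Coh.toGlobal f a)).hom.app (op ⊤) t) := by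
  intro x
  obtain ⟨W, g, hx, hW, h1, h2⟩ := h x
  refine ⟨W, algebraMap A K a * g, hx, hW, fun V hV ↦ ?_, ?_⟩
  · rw [Pi.smul_apply, Algebra.smul_def, ← mul_sub]
    exact V.mul_mem _ _ (hV.mem_ZR f he ⟨a, rfl⟩) (h1 V hV)
  · rw [rQ_mulQ, h2, germ_mulQ, germ_toGlobal, map_mul, he]

section Normal

variable (hX : Pi1.IsNormalScheme X)

include hX in
/-- Constants which agree modulo integral elements on an affine `W`. -/
theorem cs_eq_of_okAt {φ : ValuationSubring K → K} {W : X.Opens} (hW : IsAffineOpen W)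
    (hη : genericPoint X ∈ W) {g g' : K} (h : OkAt e φ W g) (h' : OkAt e φ W g') : cs W (e g) = cs W (e g') := by
  obtain ⟨s, hs⟩ := ValData.exists_germ_eq hX hW hη (e g - e g') (fun V hV ↦ by
    let V₀ : ValuationSubring K := V.comap (e : K →+* X.functionField)
    have hV₀ : pullV e V₀ = V := by
      ext z
      change e (e.symm z) ∈ V ↔ _
      rw [RingEquiv.apply_symm_apply]
    have hc : Cen e W V₀ := ⟨hη, by rw [hV₀]; exact hV⟩
    have h1 := h V₀ hc
    have h2 := h' V₀ hc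
    have h3 := sub_mem h2 h1
    rw [sub_sub_sub_cancel_left, ValuationSubring.mem_comap] at h3
    have h4 : (e : K →+* X.functionField) (g - g') = e g - e g' := map_sub e g g'
    rwa [h4] at h3)
  exact cs_eq_cs_of_germ hη s hs

include hX in
variable {e} in
theorem IsSec.unique {φ : ValuationSubring K → K} {t t' : (cokernel (toGen X)).obj.obj (op (⊤ : X.Opens))}
    (h : IsSec e φ t) (h' : IsSec e φ t') : t = t' := by
  refine eq_of_locally t t' fun x ↦ ?_
  obtain ⟨W, g, hx, hW, h1, h2⟩ := h x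
  obtain ⟨W', g', hx', hW', h1', h2'⟩ := h' x
  obtain ⟨W'', hW'', hxW'', hle⟩ := exists_isAffineOpen_mem_and_subset (X := X) (U := W ⊓ W') ⟨hx, hx'⟩
  refine ⟨W'', hxW'', ?_⟩
  rw [← rQ_rQ (le_top : W ≤ ⊤) (hle.trans inf_le_left : W'' ≤ W), h2,
    ← rQ_rQ (le_top : W' ≤ ⊤) (hle.trans inf_le_right : W'' ≤ W'), h2', rQ_cs, rQ_cs]
  exact cs_eq_of_okAt e hX hW'' (mem_of_nonempty X W'' x hxW'') (h1.mono (hle.trans inf_le_left))
    (h1'.mono (hle.trans inf_le_right))

include hX in
theorem exists_isSec [X.IsSeparated] {φ : ValuationSubring K → K} (hφ : LC e φ) :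
    ∃ t, IsSec e φ t := by
  choose W g hx hW h using hφ
  obtain ⟨t, ht⟩ := exists_glue W (fun x ↦ e (g x)) (fun x ↦ ⟨x, hx x⟩) (fun x y ↦ by
    refine cs_eq_of_okAt e hX ((hW x).inf (hW y)) ⟨mem_of_nonempty X _ x (hx x), mem_of_nonempty X _ y (hx y)⟩
      ((h x).mono inf_le_left) ((h y).mono inf_le_right))
  exact ⟨t, fun x ↦ ⟨W x, g x, hx x, hW x, h x, ht x⟩⟩

end Normal

/-- Every valuation ring containing `A` is centred on a member of a given cover. -/
theorem exists_cen [UniversallyClosed f] (he : ∀ a, e (algebraMap A K a) = ValData.toK f a)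
    {V : ValuationSubring K} (hV : V ∈ ZR (im A K)) {σ : Type*} (W : σ → X.Opens)
    (hη : ∀ i, genericPoint X ∈ W i) (hcov : ∀ x : X, ∃ i, x ∈ W i) : ∃ i, Cen e (W i) V := by
  obtain ⟨i, hi⟩ := ValData.exists_index f (toK_mem f e he hV) W hη (by
    rw [eq_top_iff]
    intro x _
    exact Opens.mem_iSup.mpr (hcov x))
  exact ⟨i, hη i, hi⟩

/-- Locally constant functions are constant on the charts of some blow-up. -/
theorem mem_DA_of_LC [IsProper f] (he : ∀ a, e (algebraMap A K a) = ValData.toK f a)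
    {φ : ValuationSubring K → K} (hφ : LC e φ) : φ ∈ DA A K := by
  classical
  have hcpt : CompactSpace X := QuasiCompact.compactSpace_of_compactSpace f
  choose W g hx hW h using hφ
  have hη : ∀ x, genericPoint X ∈ W x := fun x ↦ mem_of_nonempty X _ x (hx x)
  obtain ⟨T, hT⟩ := CompactSpace.elim_nhds_subcover (fun x => (W x : Set X)) fun x => (W x).2.mem_nhds (hx x)
  choose F hF using fun x ↦ ValData.exists_finset f (hW x) (hη x)
  have key : ∀ x, ∀ V ∈ ZR (im A K), (∀ s ∈ e.symm '' (F x : Set X.functionField), s ∈ V) ↔ Cen e (W x) V := by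
    intro x V hV
    have h1 := hF x (pullV e V) (toK_mem f e he hV)
    constructor
    · intro h2
      refine ⟨hη x, h1.1 fun z hz ↦ ?_⟩
      exact h2 _ ⟨z, hz, rfl⟩
    · rintro ⟨_, h2⟩ _ ⟨z, hz, rfl⟩
      exact h1.2 h2 hz
  refine Groth.Agent.Lipman.QC.mem_D_of_finite_cover (im A K) (L := T)
    (fun x ↦ e.symm '' (F x : Set X.functionField)) (fun x ↦ (Finset.finite_toSet _).image _) (fun x ↦ g x) φ ?_ ?_
  · intro V hV
    obtain ⟨⟨x, hxT⟩, hi⟩ := exists_cen f e he hV (fun x : T ↦ W x) (fun x ↦ hη x) (fun x ↦ by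
      have : x ∈ ⋃ y ∈ T, (W y : Set X) := by rw [hT]; trivial
      simp only [Set.mem_iUnion] at this
      obtain ⟨y, hy, hxy⟩ := this
      exact ⟨⟨y, hy⟩, hxy⟩)
    exact ⟨⟨x, hxT⟩, (key x V hV).2 hi⟩
  · intro x V hV h2
    exact h x V ((key x V hV).1 h2)

end Groth.Agent.Resolve.K112.Dict
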