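import Groth.Agent.Resolve.K112.Dict

/-!
# The injection `H^1(X, O_X) → W(A)`
-/

set_option autoImplicit false
universe u
open CategoryTheory CategoryTheory.Limits AlgebraicGeometry TopologicalSpace Opposite

namespace Groth.Agent.Resolve.K112.DictMain

open Groth.Agent.CurvesC Groth.Agent.CurvesC.ModDim Groth.Agent.CurvesC.Cousin CousinLin
open Groth.Agent.Lipman.Defs Groth.Agent.Lipman.ZRD158 WM Dict

variable {A : Type u} [CommRing A] {X : Scheme.{u}} [IsIntegral X] [X.Over (Spec (CommRingCat.of A))]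
  {K : Type u} [Field K] [Algebra A K] (e : K ≃+* X.functionField)
  (he : ∀ a, e (algebraMap A K a) = ValData.toK (X ↘ Spec (CommRingCat.of A)) a)

variable [X.IsSeparated] (hX : Pi1.IsNormalScheme X)

/-- The section of the sheaf of Cousin data attached to a locally constant function. -/
noncomputable def sec (φ : DX (X ↘ Spec (CommRingCat.of A)) e he) :
    (cokernel (toGen X)).obj.obj (op (⊤ : X.Opens)) := (exists_isSec e hX φ.2).choose

theorem isSec_sec (φ : DX (X ↘ Spec (CommRingCat.of A)) e he) : IsSec e φ.1 (sec e he hX φ) :=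
  (exists_isSec e hX φ.2).choose_spec

/-- The map from locally constant functions to `H^1`. -/
noncomputable def Psi : DX (X ↘ Spec (CommRingCat.of A)) e he →ₗ[A] Coh.HH X (Coh.structureModule X) 1 where
  toFun φ := dlt (toGen X) (sec e he hX φ)
  map_add' φ ψ := by
    rw [← map_add]
    congr 1
    exact (isSec_sec e he hX (φ + ψ)).unique hX ((isSec_sec e he hX φ).add (isSec_sec e he hX ψ))
  map_smul' a φ := by
    have h1 : sec e he hX (a • φ) =
        (mulQ X (Coh.toGlobal (X ↘ Spec (CommRingCat.of A)) a)).hom.app (op ⊤) (sec e he hX φ) :=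
      (isSec_sec e he hX (a • φ)).unique hX ((isSec_sec e he hX φ).smul _ he a)
    rw [h1, RingHom.id_apply]
    exact dlt_mulQ X _ _

theorem Psi_apply {φ : DX (X ↘ Spec (CommRingCat.of A)) e he}
    {t : (cokernel (toGen X)).obj.obj (op (⊤ : X.Opens))} (ht : IsSec e φ.1 t) :
    Psi e he hX φ = dlt (toGen X) t := by
  change dlt (toGen X) (sec e he hX φ) = _
  rw [(isSec_sec e he hX φ).unique hX ht]

theorem Psi_eq_zero_iff [IsProper (X ↘ Spec (CommRingCat.of A))] (φ : DX (X ↘ Spec (CommRingCat.of A)) e he) :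
    Psi e he hX φ = 0 ↔ IsTriv (im A K) φ.1 := by
  constructor
  · intro h
    change dlt (toGen X) (sec e he hX φ) = 0 at h
    rw [dlt_eq_zero_iff] at h
    obtain ⟨s, hs⟩ := h
    have hs' : s = cst ⊤ (s ⟨trivial⟩) := by
      funext h
      rfl
    rw [hs'] at hs
    have hs2 : cs ⊤ (e (e.symm (s ⟨trivial⟩))) = sec e he hX φ := by
      rw [RingEquiv.apply_symm_apply]
      exact hs
    refine ⟨e.symm (s ⟨trivial⟩), fun V hV ↦ ?_⟩
    have h1 := isSec_sec e he hX φ
    choose W g hx hW h2 h3 using h1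
    obtain ⟨x, hη, hc⟩ := exists_cen (X ↘ Spec (CommRingCat.of A)) e he hV W
      (fun x ↦ mem_of_nonempty X _ x (hx x)) (fun x ↦ ⟨x, hx x⟩)
    have h4 := h3 x
    rw [← hs2, rQ_cs] at h4
    obtain ⟨z, hz⟩ := exists_germ_of_cs_eq hη h4.symm
    have h5 := hc z
    rw [hz, ← map_sub, apply_mem_pullV] at h5
    have h6 := V.add_mem _ _ (h2 x V ⟨hη, hc⟩) h5
    rwa [sub_add_sub_cancel] at h6
  · rintro ⟨g, hg⟩
    have h1 : IsSec e φ.1 (cs ⊤ (e g)) := by
      intro x
      obtain ⟨W, hW, hxW, -⟩ := exists_isAffineOpen_mem_and_subset (X := X) (U := ⊤) (x := x) trivial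
      exact ⟨W, g, hxW, hW, fun V hV ↦ hg V (hV.mem_ZR _ he), rQ_cs _ _⟩
    rw [Psi_apply e he hX h1, dlt_eq_zero_iff]
    exact ⟨_, rfl⟩

theorem Psi_surjective [IsProper (X ↘ Spec (CommRingCat.of A))] : Function.Surjective (Psi e he hX) := by
  classical
  intro x
  obtain ⟨t, rfl⟩ := dlt_surjective (toGen X) x
  choose W a hx hW h using exists_local t
  let φ : ValuationSubring K → K := fun V ↦ if h : ∃ y, Cen e (W y) V then e.symm (a h.choose) else 0
  have hφ : IsSec e φ t := by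
    intro x
    refine ⟨W x, e.symm (a x), hx x, hW x, fun V hV ↦ ?_, by rw [RingEquiv.apply_symm_apply]; exact h x⟩
    have hex : ∃ y, Cen e (W y) V := ⟨x, hV⟩
    have h1 : φ V = e.symm (a hex.choose) := dif_pos hex
    rw [h1]
    obtain ⟨hη, h2⟩ := hV
    obtain ⟨hη', h2'⟩ := hex.choose_spec
    have h3 : cs (W hex.choose ⊓ W x) (a hex.choose) = cs (W hex.choose ⊓ W x) (a x) := by
      rw [← rQ_cs (inf_le_left : W hex.choose ⊓ W x ≤ _), ← h hex.choose, rQ_rQ,
        ← rQ_cs (inf_le_right : W hex.choose ⊓ W x ≤ _), ← h x, rQ_rQ]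
    obtain ⟨s, hs⟩ := exists_germ_of_cs_eq (W := W hex.choose ⊓ W x) ⟨hη', hη⟩ h3
    have h4 := ValData.mem_inter (X ↘ Spec (CommRingCat.of A)) (hW hex.choose) (hW x) hη' hη h2' h2 s
    rw [hs, mem_pullV, map_sub] at h4
    exact h4
  have hLC : LC e φ := fun x ↦ by
    obtain ⟨W, g, h1, h2, h3, -⟩ := hφ x
    exact ⟨W, g, h1, h2, h3⟩
  exact ⟨⟨φ, hLC⟩, Psi_apply e he hX (φ := ⟨φ, hLC⟩) hφ⟩

include he hX in
/-- **The injection** `H^1(X, O_X) → W(A)`. -/
theorem exists_injective [IsProper (X ↘ Spec (CommRingCat.of A))] :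
    ∃ j : Coh.HH X (Coh.structureModule X) 1 →ₗ[A] WA A K, Function.Injective j ∧
      ∀ φ : DA A K, LC e φ.1 → ∃ x, j x = Submodule.Quotient.mk φ := by
  have hle : DX (X ↘ Spec (CommRingCat.of A)) e he ≤ DA A K := fun φ hφ ↦ mem_DA_of_LC _ e he hφ
  let q : DX (X ↘ Spec (CommRingCat.of A)) e he →ₗ[A] WA A K := (Submodule.mkQ _) ∘ₗ Submodule.inclusion hle
  have hq : ∀ φ, q φ = 0 ↔ Psi e he hX φ = 0 := by
    intro φ
    rw [Psi_eq_zero_iff]
    change Submodule.Quotient.mk (Submodule.inclusion hle φ) = 0 ↔ _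
    rw [Submodule.Quotient.mk_eq_zero]
    exact Iff.rfl
  have hsurj := Psi_surjective e he hX
  let j : Coh.HH X (Coh.structureModule X) 1 →ₗ[A] WA A K :=
    ((LinearMap.ker (Psi e he hX)).liftQ q fun φ h ↦ (hq φ).2 h) ∘ₗ
      ((Psi e he hX).quotKerEquivOfSurjective hsurj).symm.toLinearMap
  have hj : ∀ φ, j (Psi e he hX φ) = q φ := by
    intro φ
    have h1 : ((Psi e he hX).quotKerEquivOfSurjective hsurj).symm (Psi e he hX φ) = Submodule.Quotient.mk φ := by
      rw [LinearEquiv.symm_apply_eq]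
      rfl
    change ((LinearMap.ker (Psi e he hX)).liftQ q fun φ h ↦ (hq φ).2 h)
      (((Psi e he hX).quotKerEquivOfSurjective hsurj).symm (Psi e he hX φ)) = _
    rw [h1, Submodule.liftQ_apply]
  refine ⟨j, ?_, fun φ hφ ↦ ⟨Psi e he hX ⟨φ.1, hφ⟩, ?_⟩⟩
  · rw [injective_iff_map_eq_zero]
    intro x hx
    obtain ⟨φ, rfl⟩ := hsurj x
    rw [hj] at hx
    exact (hq φ).1 hx
  · rw [hj]
    rfl

end Groth.Agent.Resolve.K112.DictMain
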