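import Groth.Agent.LoccohB.DCalc
import Groth.Agent.Resolve.K374.OmegaA

/-!
# If `d` kills the cokernel of `Hom(K, ω) → ω` and `Hom(K, ω[1]) = 0` then `d` kills `H^1(K)`
-/

set_option autoImplicit false
universe u

open CategoryTheory CategoryTheory.Limits Opposite Pretriangulated

attribute [local instance] HasDerivedCategory.standard

namespace Groth.Agent.Resolve.K112.TrD

open DerivedCategory Groth.Agent Groth.Agent.LoccohB Groth.Agent.LoccohB.DualShift Groth.Agent.LoccohB.DBase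
  Groth.Agent.LoccohB.GorNak Groth.Agent.LoccohB.HomCx Groth.Agent.LoccohB.BidualD Groth.Agent.LoccohB.HomCxHD
  Groth.Agent.LoccohB.GorDual

section General

variable {A : Type u} [CommRing A]

/-- If `a` kills the module then it kills the object of the derived category. -/
theorem smul_id_single (a : A) (n : ℤ) (N : ModuleCat.{u} A) (h : ∀ x : N, a • x = 0) :
    a • 𝟙 ((singleFunctor (ModuleCat.{u} A) n).obj N) = 0 := by
  have h1 : a • 𝟙 N = 0 := by
    refine ModuleCat.hom_ext (LinearMap.ext fun x => ?_)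
    exact h x
  have h2 : (singleFunctor (ModuleCat.{u} A) n).map (a • 𝟙 N) = a • 𝟙 _ := by
    rw [Functor.map_smul, CategoryTheory.Functor.map_id]
  rw [← h2, h1, Functor.map_zero]

theorem smul_id_of_iso (a : A) {K L : Dual.D A} (e : K ≅ L) (h : a • 𝟙 L = 0) : a • 𝟙 K = 0 := by
  rw [← cancel_epi e.inv, ← cancel_mono e.hom, Linear.comp_smul, Linear.smul_comp, Category.comp_id,
    Iso.inv_hom_id, h, comp_zero, zero_comp]

theorem smul_id_of_HD (a : A) (n : ℤ) (K : Dual.D A) [K.IsGE n] [K.IsLE n]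
    (h : ∀ x : Dual.HD A K n, a • x = 0) : a • 𝟙 K = 0 := by
  obtain ⟨e⟩ := Devissage.nonempty_iso_single K n
  exact smul_id_of_iso a e (smul_id_single a n _ h)

theorem smul_HD_of_smul_id (a : A) (n : ℤ) (K : Dual.D A) (h : a • 𝟙 K = 0) (x : Dual.HD A K n) :
    a • x = 0 := by
  have h1 : (homologyFunctor (ModuleCat.{u} A) n).map (a • 𝟙 K) = a • 𝟙 _ := by
    rw [Functor.map_smul, CategoryTheory.Functor.map_id]
  rw [h, Functor.map_zero] at h1
  exact (congr($(h1).hom x)).symm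

/-- If `a` kills `Hom(K, ω[n])` and the other `Hom(K, ω[i])` vanish then `a` kills `K`. -/
theorem smul_id_of_dual [IsNoetherianRing A] (a : A) (ω : Dual.D A) (hω : Dual.IsDualizing A ω)
    (K : Dual.D A) (hK : ∀ i, Module.Finite A (Dual.HD A K i)) (n : ℤ)
    (h0 : ∀ i : ℤ, i ≠ n → Subsingleton (K ⟶ ω⟦i⟧)) (h : ∀ φ : K ⟶ ω⟦n⟧, a • φ = 0) : a • 𝟙 K = 0 := by
  obtain ⟨I, p, q, hI, ⟨eI⟩⟩ := exists_model ω hω
  have hKI := hI.isKInjective
  let X := Q.objPreimage K
  let eX : Q.obj X ≅ K := Q.objObjPreimageIso K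
  let Z : Dual.D A := DRing.toD (DRing.homCx X I)
  have eZ : ∀ i : ℤ, Nonempty (Dual.HD A Z i ≃ₗ[A] (K ⟶ ω⟦i⟧)) := fun i =>
    ⟨K374.GD.zEquiv X I i ≪≫ₗ Linear.homCongr A eX ((CategoryTheory.shiftFunctor (Dual.D A) i).mapIso eI)⟩
  have hz : ∀ i : ℤ, i ≠ n → IsZero ((homologyFunctor (ModuleCat.{u} A) i).obj Z) := by
    intro i hi
    obtain ⟨e⟩ := eZ i
    exact ModuleCat.isZero_iff_subsingleton.2 (e.toEquiv.subsingleton_congr.2 (h0 i hi))
  have hGE : Z.IsGE n := by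
    rw [DerivedCategory.isGE_iff]
    exact fun i hi => hz i hi.ne
  have hLE : Z.IsLE n := by
    rw [DerivedCategory.isLE_iff]
    exact fun i hi => hz i hi.ne'
  have hZ0 : a • 𝟙 Z = 0 := smul_id_of_HD a n Z fun x => by
    obtain ⟨e⟩ := eZ n
    apply e.injective
    rw [map_smul, map_zero]
    exact h _
  have hfX : ∀ i, Module.Finite A (X.homology i) := fun i =>
    have := hK i
    Module.Finite.equiv (((DerivedCategory.homologyFunctor (ModuleCat.{u} A) i).mapIso eX).toLinearEquiv.symm ≪≫ₗ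
      hdEquiv X i)
  have hev := hI.quasiIso_ev X hfX
  have h1 : dmap I (a • 𝟙 (Q.obj X)) = dmap I ((0 : A) • 𝟙 (Q.obj X) : Q.obj X ⟶ Q.obj X) := by
    have h2 := dmap_smul I (X := X) (Y := X) a (𝟙 _)
    have h3 := dmap_smul I (X := X) (Y := X) (0 : A) (𝟙 _)
    rw [dmap_id] at h2 h3
    rw [h2, h3, zero_smul]
    exact hZ0
  have h2 : a • 𝟙 (Q.obj X) = 0 := by
    have := (dmap_bijective I X X).1 h1
    rwa [zero_smul] at this
  exact smul_id_of_iso a eX.symm h2

end General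

section Main

variable {A : Type u} [CommRing A] [IsDomain A] [IsLocalRing A] [IsNoetherianRing A]
  (hdim : ringKrullDim A = 2) {ωA : Type u} [AddCommGroup ωA] [Module A ωA]
  (hω : Dual.IsDualizing A (Dual.inD A ωA))

include hdim hω in
theorem smul_HD_one (K : Dual.D A) (hGE : K.IsGE 0) (hLE : K.IsLE 1)
    (hf : Module.Finite A (Dual.HD A K 1)) (hs : Module.supportDim A (Dual.HD A K 1) ≤ ((0 : ℕ) : WithBot ℕ∞))
    (h1 : Subsingleton (K ⟶ (Dual.inD A ωA)⟦(1 : ℤ)⟧)) (g : Dual.inD A A ⟶ K)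
    (hg : IsIso ((homologyFunctor (ModuleCat.{u} A) 0).map g)) (d : A)
    (hd : ∀ w : Dual.inD A A ⟶ Dual.inD A ωA, ∃ θ : K ⟶ Dual.inD A ωA, g ≫ θ = d • w)
    (x : Dual.HD A K 1) : d • x = 0 := by
  obtain ⟨P, B, a, b, c, hT, hP, hB, hi, hj⟩ := DQCohBasic.exists_trunc K 0
  have hP' : P.IsGE 0 := by
    rw [isGE_iff]
    intro j hj
    have := hi j hj.le
    exact (isZero_of_isGE K 0 j hj).of_iso (asIso ((homologyFunctor _ j).map a))
  have hB' : B.IsLE 1 := by
    rw [isLE_iff]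
    intro j hj'
    have := hj j (by lia)
    exact (isZero_of_isLE K 1 j hj').of_iso (asIso ((homologyFunctor _ j).map b)).symm
  have hB1 : B.IsGE 1 := hB
  have h10 := hi 0 le_rfl
  have h21 := hj 1 (by norm_num)
  -- lift `g` to `P`
  obtain ⟨g', hg'⟩ : ∃ g' : Dual.inD A A ⟶ P, g' ≫ a = g := by
    have hz : g ≫ b = 0 := TStructure.t.zero _ 0 1 (by norm_num)
    obtain ⟨g', hg'⟩ := Triangle.coyoneda_exact₂ _ hT g hz
    exact ⟨g', hg'.symm⟩
  have hg'0 : IsIso ((homologyFunctor (ModuleCat.{u} A) 0).map g') := by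
    have h2 : IsIso ((homologyFunctor (ModuleCat.{u} A) 0).map g' ≫
        (homologyFunctor (ModuleCat.{u} A) 0).map a) := by
      rw [← Functor.map_comp, hg']
      exact hg
    exact IsIso.of_isIso_comp_right _ ((homologyFunctor (ModuleCat.{u} A) 0).map a)
  have hg'i : IsIso g' := by
    rw [isIso_iff]
    intro i
    by_cases hi0 : i = 0
    · subst hi0
      exact hg'0
    · have hz1 : IsZero ((homologyFunctor (ModuleCat.{u} A) i).obj (Dual.inD A A)) := by
        rcases lt_or_gt_of_ne hi0 with h | h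
        · exact isZero_of_isGE _ 0 i h
        · exact isZero_of_isLE _ 0 i h
      have hz2 : IsZero ((homologyFunctor (ModuleCat.{u} A) i).obj P) := by
        rcases lt_or_gt_of_ne hi0 with h | h
        · exact isZero_of_isGE _ 0 i h
        · exact isZero_of_isLE _ 0 i h
      exact ⟨⟨0, hz1.eq_of_src _ _, hz2.eq_of_src _ _⟩⟩
  have hkill : ∀ φ : B ⟶ (Dual.inD A ωA)⟦(1 : ℤ)⟧, d • φ = 0 := by
    intro φ
    obtain ⟨ψ, hψ⟩ : ∃ ψ : P⟦(1 : ℤ)⟧ ⟶ (Dual.inD A ωA)⟦(1 : ℤ)⟧, φ = c ≫ ψ :=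
      Triangle.yoneda_exact₃ _ hT φ (h1.elim _ _)
    obtain ⟨w, hw⟩ : ∃ w : P ⟶ Dual.inD A ωA, (shiftFunctor (Dual.D A) (1 : ℤ)).map w = ψ :=
      (shiftFunctor (Dual.D A) (1 : ℤ)).map_surjective ψ
    subst hw
    obtain ⟨θ, hθ⟩ := hd (g' ≫ w)
    have h2 : a ≫ θ = d • w := by
      rw [← cancel_epi g', ← Category.assoc, hg', hθ, Linear.comp_smul]
    have h3 : c ≫ (shiftFunctor (Dual.D A) (1 : ℤ)).map a = 0 := comp_distTriang_mor_zero₃₁ _ hT
    have h4 : d • (shiftFunctor (Dual.D A) (1 : ℤ)).map w =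
        (shiftFunctor (Dual.D A) (1 : ℤ)).map a ≫ (shiftFunctor (Dual.D A) (1 : ℤ)).map θ := by
      rw [← Functor.map_comp, h2, Functor.map_smul]
    rw [hψ, ← Linear.comp_smul, h4, ← Category.assoc, h3, zero_comp]
  have hfB : Module.Finite A (Dual.HD A B 1) :=
    Module.Finite.equiv (asIso ((homologyFunctor (ModuleCat.{u} A) 1).map b)).toLinearEquiv
  have hsB : Module.supportDim A (Dual.HD A B 1) ≤ ((0 : ℕ) : WithBot ℕ∞) := by
    rw [← Module.supportDim_eq_of_equiv (asIso ((homologyFunctor (ModuleCat.{u} A) 1).map b)).toLinearEquiv]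
    exact hs
  obtain ⟨eB⟩ := Devissage.nonempty_iso_single B 1
  have h0 : ∀ i : ℤ, i ≠ 1 → Subsingleton (B ⟶ (Dual.inD A ωA)⟦i⟧) := by
    intro i hi1
    have h4 := K374.OmegaA.subsingleton_ext hdim hω (Dual.HD A B 1) 0 hsB (i + 1) (by
      rcases lt_or_gt_of_ne hi1 with h | h
      · left; push_cast; lia
      · right; lia)
    have h5 : Subsingleton (sg A 1 (Dual.HD A B 1) ⟶ (Dual.inD A ωA)⟦i⟧) :=
      (GorDual.sgShiftEquiv (Dual.HD A B 1) (Dual.inD A ωA) i 1 (i + 1) rfl).toEquiv.subsingleton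
    exact (Linear.homCongr A eB (Iso.refl ((Dual.inD A ωA)⟦i⟧))).toEquiv.subsingleton
  have hB0 : d • 𝟙 B = 0 := by
    refine smul_id_of_dual d (Dual.inD A ωA) hω B (fun i => ?_) 1 h0 hkill
    by_cases hi1 : i = 1
    · subst hi1
      exact hfB
    · have hz2 : IsZero ((homologyFunctor (ModuleCat.{u} A) i).obj B) := by
        rcases lt_or_gt_of_ne hi1 with h | h
        · exact isZero_of_isGE _ 1 i h
        · exact isZero_of_isLE _ 1 i h
      have := ModuleCat.isZero_iff_subsingleton.1 hz2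
      exact Module.Finite.of_finite
  apply (asIso ((homologyFunctor (ModuleCat.{u} A) 1).map b)).toLinearEquiv.injective
  rw [map_smul, map_zero]
  exact smul_HD_of_smul_id d 1 B hB0 _

end Main

end Groth.Agent.Resolve.K112.TrD
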