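import Groth.Agent.Resolve.K374.TraceIso
import Groth.Agent.LoccohB.DCalc
import Groth.Agent.Ega3B.TensorAUnit

/-!
# Sections of `H^0` and morphisms from `O`
-/

set_option autoImplicit false
universe u

open CategoryTheory CategoryTheory.Limits AlgebraicGeometry Opposite Pretriangulated

attribute [local instance] HasDerivedCategory.standard

namespace Groth.Agent.Resolve.K112.TrSh

open DerivedCategory Groth.Agent Groth.Agent.LoccohB Groth.Agent.LoccohB.PnDual287

section Eval

variable {Y : Scheme.{u}}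

/-- The section `1` of `H^0(O[0])`. -/
noncomputable def one0 (Y : Scheme.{u}) : Γ(DCoh.HD (OD Y) 0, ⊤) :=
  ((singleFunctorCompHomologyFunctorIso Y.Modules 0).inv.app (Coh.structureModule Y)).app ⊤
    (Dcoh.Restrict.one ⊤)

/-- The section of `H^0(L)` given by a map from `O`. -/
noncomputable def ev0 (L : DCoh.D Y) (w : OD Y ⟶ L) : Γ(DCoh.HD L 0, ⊤) :=
  ((homologyFunctor Y.Modules 0).map w).app ⊤ (one0 Y)

theorem ev0_comp {L L' : DCoh.D Y} (w : OD Y ⟶ L) (φ : L ⟶ L') :
    ev0 L' (w ≫ φ) = ((homologyFunctor Y.Modules 0).map φ).app ⊤ (ev0 L w) := by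
  unfold ev0
  rw [Functor.map_comp]
  rfl

theorem ev0_bijective (L : DCoh.D Y) [L.IsGE 0] : Function.Bijective (ev0 L) := by
  let i := (singleFunctorCompHomologyFunctorIso Y.Modules 0).app (Coh.structureModule Y)
  constructor
  · intro w w' h
    apply (DCalc.homEquiv 0 (OD Y) L).injective
    rw [DCalc.homEquiv_apply, DCalc.homEquiv_apply]
    have h1 : i.inv ≫ (homologyFunctor Y.Modules 0).map w = i.inv ≫ (homologyFunctor Y.Modules 0).map w' :=
      Dcoh.Restrict.unit_hom_ext _ _ h
    exact (cancel_epi i.inv).1 h1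
  · intro t
    refine ⟨(DCalc.homEquiv 0 (OD Y) L).symm (i.hom ≫ Dcoh.Restrict.unitHom t), ?_⟩
    have h1 : (homologyFunctor Y.Modules 0).map
        ((DCalc.homEquiv 0 (OD Y) L).symm (i.hom ≫ Dcoh.Restrict.unitHom t)) =
        i.hom ≫ Dcoh.Restrict.unitHom t := by
      rw [← DCalc.homEquiv_apply, AddEquiv.apply_symm_apply]
    have h2 : i.inv ≫ (homologyFunctor Y.Modules 0).map
        ((DCalc.homEquiv 0 (OD Y) L).symm (i.hom ≫ Dcoh.Restrict.unitHom t)) =
        Dcoh.Restrict.unitHom t := by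
      rw [h1, Iso.inv_hom_id_assoc]
    have h3 := congrArg (fun φ : Coh.structureModule Y ⟶ _ => φ.app ⊤ (Dcoh.Restrict.one ⊤)) h2
    exact h3.trans (Dcoh.Restrict.unitHom_app_one t)

end Eval

section Smul

variable {A : Type u} [CommRing A]

theorem smulMod_one (a : A) :
    (Formal.smulMod A (Coh.structureModule (Spec (CommRingCat.of A))) a).app ⊤ (Dcoh.Restrict.one ⊤) =
      ((Scheme.ΓSpecIso (CommRingCat.of A)).inv.hom a) •
        (Dcoh.Restrict.one ⊤ : Γ(Coh.structureModule (Spec (CommRingCat.of A)), ⊤)) := by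
  let r' : Γ(Spec (CommRingCat.of A), ⊤) := (Scheme.ΓSpecIso (CommRingCat.of A)).inv.hom a
  have e2 : (Spec (CommRingCat.of A)).presheaf.map (homOfLE le_top :
      (⊤ : (Spec (CommRingCat.of A)).Opens) ⟶ ⊤).op r' = r' :=
    ConcreteCategory.congr_hom ((Spec (CommRingCat.of A)).presheaf.map_id _) r'
  have e3 : (Spec (CommRingCat.of A) ↘ Spec (CommRingCat.of A)).appTop r' = r' := rfl
  change (Spec (CommRingCat.of A)).presheaf.map (homOfLE le_top :
      (⊤ : (Spec (CommRingCat.of A)).Opens) ⟶ ⊤).op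
        ((Spec (CommRingCat.of A) ↘ Spec (CommRingCat.of A)).appTop r') *
          (1 : Γ(Spec (CommRingCat.of A), ⊤)) = r' * (1 : Γ(Spec (CommRingCat.of A), ⊤))
  rw [e3, e2]

theorem ev0_mD (a : A) {L : DCoh.D (Spec (CommRingCat.of A))}
    (w : OD (Spec (CommRingCat.of A)) ⟶ L) :
    ev0 L (mD A (Spec (CommRingCat.of A)) a ≫ w) =
      ((Scheme.ΓSpecIso (CommRingCat.of A)).inv.hom a) • ev0 L w := by
  let F := homologyFunctor (Spec (CommRingCat.of A)).Modules 0
  let r' : Γ(Spec (CommRingCat.of A), ⊤) := (Scheme.ΓSpecIso (CommRingCat.of A)).inv.hom a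
  have h1 : (F.map (mD A (Spec (CommRingCat.of A)) a)).app ⊤ (one0 _) = r' • one0 _ := by
    have h2 := (singleFunctorCompHomologyFunctorIso (Spec (CommRingCat.of A)).Modules 0).inv.naturality
      (Formal.smulMod A (Coh.structureModule (Spec (CommRingCat.of A))) a)
    have h3 := congrArg (fun φ : Coh.structureModule (Spec (CommRingCat.of A)) ⟶ _ =>
      φ.app ⊤ (Dcoh.Restrict.one ⊤)) h2
    refine (h3.symm.trans ?_ : _)
    change ((singleFunctorCompHomologyFunctorIso (Spec (CommRingCat.of A)).Modules 0).inv.app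
      (Coh.structureModule (Spec (CommRingCat.of A)))).app ⊤
        ((Formal.smulMod A (Coh.structureModule (Spec (CommRingCat.of A))) a).app ⊤ (Dcoh.Restrict.one ⊤)) = _
    rw [smulMod_one]
    exact Scheme.Modules.Hom.app_smul _ r' _
  have h4 : ev0 L (mD A (Spec (CommRingCat.of A)) a ≫ w) =
      (F.map w).app ⊤ ((F.map (mD A (Spec (CommRingCat.of A)) a)).app ⊤ (one0 _)) := by
    unfold ev0
    rw [Functor.map_comp]
    rfl
  rw [h4, h1]
  exact Scheme.Modules.Hom.app_smul _ r' _

end Smul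

section Tilde

variable (R : CommRingCat.{u}) [PreservesFiniteLimits (tilde.functor R)]

/-- `tildeD` on modules. -/
noncomputable def tSingle (M : ModuleCat.{u} R) :
    (DCoh.tildeD R).obj ((singleFunctor (ModuleCat.{u} R) 0).obj M) ≅
      DCoh.inD _ ((tilde.functor R).obj M) :=
  ((tilde.functor R).mapDerivedCategorySingleFunctor 0).app M

theorem tSingle_naturality {M N : ModuleCat.{u} R} (φ : M ⟶ N) :
    (DCoh.tildeD R).map ((singleFunctor (ModuleCat.{u} R) 0).map φ) ≫ (tSingle R N).hom =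
      (tSingle R M).hom ≫ (singleFunctor (Spec R).Modules 0).map ((tilde.functor R).map φ) :=
  ((tilde.functor R).mapDerivedCategorySingleFunctor 0).hom.naturality φ

end Tilde

section EA

variable (A : Type u) [CommRing A] [PreservesFiniteLimits (tilde.functor (CommRingCat.of A))]

/-- `A~ ≅ O` in the derived category. -/
noncomputable def eA : (DCoh.tildeD (CommRingCat.of A)).obj (Dual.inD A A) ≅ OD (Spec (CommRingCat.of A)) :=
  tSingle (CommRingCat.of A) (ModuleCat.of A A)

theorem eA_smul (a : A) :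
    (DCoh.tildeD (CommRingCat.of A)).map (a • 𝟙 (Dual.inD A A)) ≫ (eA A).hom =
      (eA A).hom ≫ mD A (Spec (CommRingCat.of A)) a := by
  have h1 := tSingle_naturality (CommRingCat.of A) (M := ModuleCat.of A A) (N := ModuleCat.of A A)
    (a • 𝟙 (ModuleCat.of A A))
  have h2 : (singleFunctor (ModuleCat.{u} A) 0).map (a • 𝟙 (ModuleCat.of A A)) = a • 𝟙 _ := by
    rw [Functor.map_smul, CategoryTheory.Functor.map_id]
  have h3 := Ega3B.TensorAUnit.tilde_map_smul (A := A) (ModuleCat.of A A) a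
  have h4 : (DCoh.tildeD (CommRingCat.of A)).map (a • 𝟙 (Dual.inD A A)) ≫ (eA A).hom =
      (DCoh.tildeD (CommRingCat.of A)).map
        ((singleFunctor (ModuleCat.{u} A) 0).map (a • 𝟙 (ModuleCat.of A A))) ≫ (eA A).hom := by
    rw [h2]
  rw [h4]
  refine Eq.trans h1 ?_
  exact congrArg (fun t => (eA A).hom ≫ (singleFunctor (Spec (CommRingCat.of A)).Modules 0).map t) h3

end EA

end Groth.Agent.Resolve.K112.TrSh
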