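import Groth.Agent.Resolve.K374.GROmega
import Groth.Agent.Resolve.K112.TrD
import Groth.Agent.Resolve.K112.TrSh
import Groth.Agent.S0998
import Groth.Agent.S1766

/-!
# The trace condition kills `H^1(X, O_X)`
-/

set_option autoImplicit false
universe u

open CategoryTheory CategoryTheory.Limits AlgebraicGeometry Opposite Pretriangulated

attribute [local instance] HasDerivedCategory.standard

attribute [-instance] AlgebraicGeometry.specOverSpec

namespace Groth.Agent.Resolve.K112.TrMain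

open DerivedCategory Groth.Agent Groth.Agent.LoccohB Groth.Agent.LoccohB.PnDual287
  Groth.Agent.Resolve.K112.TrD Groth.Agent.Resolve.K112.TrSh

section Alg

variable {A : Type u} [CommRing A]

theorem supportDim_le_zero [IsLocalRing A] (M : Type u) [AddCommGroup M] [Module A M]
    (h : ∀ a ∈ IsLocalRing.maximalIdeal A, ∀ x : M, ∃ n : ℕ, a ^ n • x = 0) :
    Module.supportDim A M ≤ ((0 : ℕ) : WithBot ℕ∞) := by
  have h1 : ∀ p ∈ Module.support A M, p = IsLocalRing.closedPoint A := by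
    intro p hp
    by_contra hne
    have h2 : ¬ IsLocalRing.maximalIdeal A ≤ p.asIdeal := by
      intro h3
      apply hne
      have h4 := (IsLocalRing.maximalIdeal.isMaximal A).eq_of_le p.2.ne_top h3
      exact PrimeSpectrum.ext h4.symm
    obtain ⟨a, ha, ha'⟩ := Set.not_subset.1 h2
    refine Module.notMem_support_iff'.2 (fun x => ?_) hp
    obtain ⟨n, hn⟩ := h a ha x
    exact ⟨a ^ n, fun h5 => ha' (p.2.mem_of_pow_mem n h5), hn⟩
  have : Subsingleton (Module.support A M) :=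
    ⟨fun p q => Subtype.ext ((h1 p.1 p.2).trans (h1 q.1 q.2).symm)⟩
  exact Order.krullDim_nonpos_of_subsingleton

/-- A surjective endomorphism of an object isomorphic to `A` is an isomorphism. -/
theorem isIso_of_comp [IsNoetherianRing A] {P M : ModuleCat.{u} A} (l : M ≃ₗ[A] A) (g : P ⟶ M) (U : M ⟶ M)
    (h : IsIso (g ≫ U)) : IsIso g := by
  have hs : Function.Surjective U.hom := by
    have h1 : Function.Surjective (g ≫ U).hom :=
      (ConcreteCategory.bijective_of_isIso (g ≫ U)).2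
    intro y
    obtain ⟨x, hx⟩ := h1 y
    exact ⟨g.hom x, hx⟩
  have hn : IsNoetherian A M := isNoetherian_of_linearEquiv l.symm
  have hb : Function.Bijective U.hom := OrzechProperty.bijective_of_surjective_endomorphism U.hom hs
  have hU : IsIso U := by
    rw [ConcreteCategory.isIso_iff_bijective]
    exact hb
  exact IsIso.of_isIso_comp_right g U

end Alg

section Main

variable {A : Type u} [CommRing A] [IsDomain A] [IsLocalRing A] [IsNoetherianRing A] [IsIntegrallyClosed A]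
  (hdim : ringKrullDim A = 2) {X : Scheme.{u}} (f : X ⟶ Spec (CommRingCat.of A)) [IsProper f] [IsIntegral X]
  (hXn : Pi1.IsNormalScheme X)
  (hbir : ∃ U : (Spec (CommRingCat.of A)).Opens, (U : Set (Spec (CommRingCat.of A))).Nonempty ∧ IsIso (f ∣_ U))
  {ωA : Type u} [AddCommGroup ωA] [Module A ωA] (hω : Dual.IsDualizing A (Dual.inD A ωA))
  [PreservesFiniteLimits (tilde.functor (CommRingCat.of A))]
  [DCoh.HasRpush f] (h : DCoh.RpushPreservesQCoh f) [DCoh.HasShriek f h]
  (WA : DCoh.DQCoh (Spec (CommRingCat.of A)))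
  (eW : WA.obj ≅ (DCoh.tildeD (CommRingCat.of A)).obj (Dual.inD A ωA))
  (d : A)
  (htr : ∀ s : ((DerivedCategory.homologyFunctor (Spec (CommRingCat.of A)).Modules 0).obj WA.obj).val.obj (Opposite.op ⊤),
    ∃ t, (((DerivedCategory.homologyFunctor (Spec (CommRingCat.of A)).Modules 0).map
      ((ObjectProperty.ι DCoh.IsQCohD).map ((DCoh.trace f h).app WA))).val.app (Opposite.op ⊤)) t =
            ((Scheme.ΓSpecIso (CommRingCat.of A)).inv.hom d) • s)

include hdim hXn hbir hω eW htr in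
theorem smul_HH [X.Over (Spec (CommRingCat.of A))] (hf : X ↘ Spec (CommRingCat.of A) = f)
    (x : Coh.HH X (Coh.structureModule X) 1) : d • x = 0 := by
  subst hf
  obtain ⟨K, ⟨e⟩⟩ := PerfA.TildeMain.exists_iso (CommRingCat.of A)
    ((DCoh.Rpush (X ↘ Spec (CommRingCat.of A))).obj (OD X)) (h _ (isQCohD_OD X))
  have hc : Coh.IsCoh (Coh.structureModule X) :=
    have : IsLocallyNoetherian X := LocallyOfFiniteType.isLocallyNoetherian (X ↘ Spec (CommRingCat.of A))
    Groth.Agent.CurvesC.UnitCoh.isCoh_unit X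
  have hGE : ((DCoh.Rpush (X ↘ Spec (CommRingCat.of A))).obj (OD X)).IsGE 0 :=
    PerfC.RpushTrunc.isGE_Rpush _ _ 0
  have hLE : ((DCoh.Rpush (X ↘ Spec (CommRingCat.of A))).obj (OD X)).IsLE 1 :=
    K374.ShriekGE.hle hdim (X ↘ Spec (CommRingCat.of A)) hbir _ hc 0
  have h1 : K.IsGE 0 := K374.RGam.isGE_of_iso (A := A) e 0 hGE
  have h2 : K.IsLE 1 := K374.RGam.isLE_of_iso (A := A) e 1 hLE
  obtain ⟨l⟩ := K374.ModBasic.nonempty_HH_zero hdim (X ↘ Spec (CommRingCat.of A)) hbir rfl
  obtain ⟨l0⟩ := K374.RGam.nonempty_HD (A := A) (X := X) (Coh.structureModule X) (isQCohD_OD X) e 0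
  obtain ⟨l1⟩ := K374.RGam.nonempty_HD (A := A) (X := X) (Coh.structureModule X) (isQCohD_OD X) e 1
  have hfin : Module.Finite A (Dual.HD A K 1) :=
    have := K374.Tors.finite_HH A (X := X) (Coh.structureModule X) hc 1
    Module.Finite.equiv l1.symm
  have hκ : Subsingleton (Dual.inD A (IsLocalRing.ResidueField A) ⟶ K⟦(1 : ℤ)⟧) :=
    (K374.RGam.subsingleton_hom_iff (A := A) (K374.GRDer.ktIso A) e 1).1
      (K374.GRDer.subsingleton_hom hdim _ hXn hbir)
  have h3 := K374.OmegaA.subsingleton_hom_one hdim hω K h1 h2 (l0 ≪≫ₗ l) hfin hκ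
  -- the module is supported at the closed point
  have hsup : Module.supportDim A (Dual.HD A K 1) ≤ ((0 : ℕ) : WithBot ℕ∞) := by
    refine supportDim_le_zero _ fun a ha y => ?_
    obtain ⟨n, hn⟩ := K374.Tors.exists_pow_smul_eq_zero (X := X) hdim hbir a ha (Coh.structureModule X)
      hc.1 1 one_pos (l1 y)
    refine ⟨n, l1.injective ?_⟩
    rw [map_smul, map_zero]
    exact hn
  -- the unit
  obtain ⟨L, ad, eX, he⟩ := exists_adj (A := A) (X := X) (f := X ↘ Spec (CommRingCat.of A)) rfl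
  let g : OD (Spec (CommRingCat.of A)) ⟶ (DCoh.Rpush (X ↘ Spec (CommRingCat.of A))).obj (OD X) :=
    (homEquivOD ad eX (OD X)).symm (𝟙 _)
  have hg : ∀ {N : DCoh.D X} (v : OD (Spec (CommRingCat.of A)) ⟶
      (DCoh.Rpush (X ↘ Spec (CommRingCat.of A))).obj N),
      ∃ u : OD X ⟶ N, v = g ≫ (DCoh.Rpush (X ↘ Spec (CommRingCat.of A))).map u := by
    intro N v
    refine ⟨homEquivOD ad eX N v, ?_⟩
    apply (homEquivOD ad eX N).injective
    change homEquivOD ad eX N v = eX.inv ≫ (ad.homEquiv _ N).symm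
      (g ≫ (DCoh.Rpush (X ↘ Spec (CommRingCat.of A))).map (homEquivOD ad eX N v))
    rw [Adjunction.homEquiv_naturality_right_symm, ← Category.assoc]
    have h4 : eX.inv ≫ (ad.homEquiv _ (OD X)).symm g = 𝟙 _ :=
      (homEquivOD ad eX (OD X)).apply_symm_apply (𝟙 _)
    rw [h4, Category.id_comp]
  let T := DCoh.tildeD (CommRingCat.of A)
  have hT : ∀ M N : Dual.D A, Function.Bijective (fun u : M ⟶ N => T.map u) :=
    fun M N => PerfA.TildeMain.bijective_map (CommRingCat.of A) M N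
  obtain ⟨g', hg'⟩ := (hT _ _).2 ((eA A).hom ≫ g ≫ e.inv)
  dsimp only at hg'
  -- `H^0(g')` is an isomorphism
  have hg0 : IsIso ((homologyFunctor (ModuleCat.{u} A) 0).map g') := by
    let i0 : (homologyFunctor (ModuleCat.{u} A) 0).obj (Dual.inD A A) ≅
        (homologyFunctor (ModuleCat.{u} A) 0).obj K :=
      (singleFunctorCompHomologyFunctorIso (ModuleCat.{u} A) 0).app (ModuleCat.of A A) ≪≫
        (l0 ≪≫ₗ l).symm.toModuleIso
    let g'' : Dual.inD A A ⟶ K := (DCalc.homEquiv 0 (Dual.inD A A) K).symm i0.hom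
    have hg'' : (homologyFunctor (ModuleCat.{u} A) 0).map g'' = i0.hom := by
      rw [← DCalc.homEquiv_apply, AddEquiv.apply_symm_apply]
    obtain ⟨u, hu⟩ := hg ((eA A).inv ≫ T.map g'' ≫ e.hom)
    obtain ⟨U, hU⟩ := (hT K K).2 (e.hom ≫ (DCoh.Rpush (X ↘ Spec (CommRingCat.of A))).map u ≫ e.inv)
    dsimp only at hU
    have hcomp : g' ≫ U = g'' := by
      apply (hT _ _).1
      dsimp only
      rw [Functor.map_comp, hg', hU, Category.assoc, Category.assoc, Iso.inv_hom_id_assoc]
      have h5 := congrArg (fun t => (eA A).hom ≫ t ≫ e.inv) hu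
      dsimp only at h5
      simp only [Category.assoc, Iso.hom_inv_id_assoc, Iso.hom_inv_id, Category.comp_id] at h5
      exact h5.symm
    refine isIso_of_comp (l0 ≪≫ₗ l) _ ((homologyFunctor (ModuleCat.{u} A) 0).map U) ?_
    rw [← Functor.map_comp, hcomp, hg'']
    infer_instance
  -- the trace condition
  have hWA := K374.ShriekGE.isGE_WA WA eW
  have hsh := K374.ShriekGE.isGE_shriek hdim (X ↘ Spec (CommRingCat.of A)) hbir hω h WA eW
  have hRsh : ((DCoh.Rpush (X ↘ Spec (CommRingCat.of A))).obj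
      ((DCoh.shriek (X ↘ Spec (CommRingCat.of A)) h).obj WA).obj).IsGE 0 :=
    PerfC.RpushTrunc.isGE_Rpush _ _ 0
  have hd : ∀ w : Dual.inD A A ⟶ Dual.inD A ωA, ∃ θ : K ⟶ Dual.inD A ωA, g' ≫ θ = d • w := by
    intro w'
    let w : OD (Spec (CommRingCat.of A)) ⟶ WA.obj := (eA A).inv ≫ T.map w' ≫ eW.inv
    obtain ⟨t, ht⟩ := htr (ev0 WA.obj w)
    obtain ⟨v, hv⟩ := (ev0_bijective ((DCoh.Rpush (X ↘ Spec (CommRingCat.of A))).obj
      ((DCoh.shriek (X ↘ Spec (CommRingCat.of A)) h).obj WA).obj)).2 t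
    obtain ⟨u, hu⟩ := hg v
    let τ : (DCoh.Rpush (X ↘ Spec (CommRingCat.of A))).obj
      ((DCoh.shriek (X ↘ Spec (CommRingCat.of A)) h).obj WA).obj ⟶ WA.obj :=
      (ObjectProperty.ι DCoh.IsQCohD).map ((DCoh.trace (X ↘ Spec (CommRingCat.of A)) h).app WA)
    have key : v ≫ τ = mD A (Spec (CommRingCat.of A)) d ≫ w := by
      apply (ev0_bijective WA.obj).1
      rw [ev0_comp, hv]
      exact ht.trans (ev0_mD d w).symm
    obtain ⟨θ, hθ⟩ := (hT K (Dual.inD A ωA)).2
      (e.hom ≫ (DCoh.Rpush (X ↘ Spec (CommRingCat.of A))).map u ≫ τ ≫ eW.hom)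
    dsimp only at hθ
    refine ⟨θ, (hT _ _).1 ?_⟩
    dsimp only
    have h6 : d • w' = (d • 𝟙 (Dual.inD A A)) ≫ w' := by
      rw [Linear.smul_comp, Category.id_comp]
    rw [h6, Functor.map_comp, Functor.map_comp, hg', hθ, Category.assoc, Category.assoc,
      Iso.inv_hom_id_assoc, ← Category.assoc g, ← hu, ← cancel_mono eW.inv]
    have h7 := eA_smul A d
    have h8 : T.map (d • 𝟙 (Dual.inD A A)) = (eA A).hom ≫ mD A (Spec (CommRingCat.of A)) d ≫ (eA A).inv := by
      rw [← Category.assoc]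
      exact (Iso.eq_comp_inv (eA A)).2 h7
    rw [h8]
    simp only [Category.assoc, Iso.hom_inv_id, Category.comp_id]
    rw [key]
  have h9 := smul_HD_one hdim hω K h1 h2 hfin hsup h3 g' hg0 d hd (l1.symm x)
  have h10 := congrArg l1 h9
  rw [map_smul, map_zero] at h10
  have h11 : l1 (l1.symm x) = x := l1.apply_symm_apply x
  rw [h11] at h10
  exact h10

end Main

end Groth.Agent.Resolve.K112.TrMain
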