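import Groth.Agent.Resolve.K112.TraceW

/-!
# Finite length of `W` goes up along finite separable extensions
-/

set_option autoImplicit false
universe u v

open IsLocalRing Submodule

namespace Groth.Agent.Resolve.K112.TraceMain

open Groth.Agent.Lipman.Defs Groth.Agent.Lipman.ZRD158 WM TraceW

variable (A B K L : Type u) [CommRing A] [CommRing B] [Field K] [Field L] [Algebra A K] [Algebra A B] [Algebra B L]
  [Algebra A L] [Algebra K L] [IsScalarTower A B L] [IsScalarTower A K L] [Algebra.IsIntegral A B]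
  [FiniteDimensional K L]

/-- The trace on functions. -/
noncomputable def trD : DA B L →ₗ[A] WA A K where
  toFun ψ := Submodule.Quotient.mk ⟨trFun ψ.1, trFun_mem_D ψ.2⟩
  map_add' ψ ψ' := by
    rw [← Submodule.Quotient.mk_add, Submodule.Quotient.eq]
    refine ⟨0, fun V hV ↦ ?_⟩
    obtain ⟨g, hg⟩ := exists_isRep ψ.2 hV
    obtain ⟨g', hg'⟩ := exists_isRep ψ'.2 hV
    have h1 := trFun_sub_mem (hg.add hg')
    have h2 := trFun_sub_mem hg
    have h3 := trFun_sub_mem hg'
    have h4 := sub_mem (sub_mem h1 h2) h3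
    rw [map_add] at h4
    convert h4 using 1
    change trFun (ψ.1 + ψ'.1) V - (trFun ψ.1 V + trFun ψ'.1 V) - 0 = _
    ring
  map_smul' a ψ := by
    rw [RingHom.id_apply, ← Submodule.Quotient.mk_smul, Submodule.Quotient.eq]
    refine ⟨0, fun V hV ↦ ?_⟩
    obtain ⟨g, hg⟩ := exists_isRep ψ.2 hV
    have h1 := trFun_sub_mem (hg.smul hV (algebraMap A B a))
    have h2 := V.mul_mem _ _ (mem_ZR_im.1 hV a) (trFun_sub_mem hg)
    have h3 := sub_mem h1 h2
    have h4 : Algebra.trace K L (algebraMap A B a • g) = algebraMap A K a * Algebra.trace K L g := by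
      rw [algebraMap_smul, ← algebraMap_smul K a g, map_smul, smul_eq_mul]
    rw [h4] at h3
    convert h3 using 1
    change trFun (a • ψ.1) V - a • trFun ψ.1 V - 0 = _
    rw [algebraMap_smul, Algebra.smul_def a (trFun ψ.1 V)]
    ring

/-- The trace `W(B) → W(A)`. -/
noncomputable def trW : WA B L →ₗ[A] WA A K :=
  ((((TA B L).comap (DA B L).subtype).restrictScalars A).liftQ (trD A B K L) (by
    intro ψ hψ
    rw [LinearMap.mem_ker]
    change Submodule.Quotient.mk _ = _
    rw [Submodule.Quotient.mk_eq_zero]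
    exact isTriv_trFun hψ)) ∘ₗ (Submodule.Quotient.restrictScalarsEquiv A _).symm.toLinearMap

theorem trW_mk (ψ : DA B L) : trW A B K L (Submodule.Quotient.mk ψ) = trD A B K L ψ := rfl

theorem trW_eq_zero {ψ : DA B L} (h : trW A B K L (Submodule.Quotient.mk ψ) = 0) :
    IsTriv (im A K) (trFun ψ.1) := by
  rw [trW_mk] at h
  change Submodule.Quotient.mk _ = _ at h
  rw [Submodule.Quotient.mk_eq_zero] at h
  exact h

/-- The map `w ↦ (Tr(b_i w))_i`. -/
noncomputable def trPi {ι : Type} (β : ι → B) : WA B L →ₗ[A] (ι → WA A K) :=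
  LinearMap.pi fun i ↦ (trW A B K L) ∘ₗ ((LinearMap.lsmul B (WA B L) (β i)).restrictScalars A)

theorem trPi_apply {ι : Type} (β : ι → B) (w : WA B L) (i : ι) : trPi A B K L β w i = trW A B K L (β i • w) := rfl

/-- The kernel of `trPi` for a basis is killed by a nonzero element. -/
theorem exists_trPi [IsDomain A] [IsFractionRing A K] [IsFractionRing B L] [IsIntegrallyClosed B]
    [Algebra.IsSeparable K L] :
    ∃ (n : ℕ) (β : Fin n → B) (d : A), d ≠ 0 ∧ ∀ w : WA B L, trPi A B K L β w = 0 → algebraMap A B d • w = 0 := by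
  classical
  obtain ⟨s, b, hb⟩ := FiniteDimensional.exists_is_basis_integral A K L
  let e : s ≃ Fin s.card := s.equivFin
  let b' : Module.Basis (Fin s.card) K L := b.reindex e
  have hb' : ∀ i, IsIntegral A (b' i) := fun i ↦ by
    rw [Module.Basis.reindex_apply]
    exact hb _
  have hβ : ∀ i, ∃ β : B, algebraMap B L β = b' i := fun i ↦
    IsIntegrallyClosed.isIntegral_iff.1 ((hb' i).tower_top (A := B))
  choose β hβ using hβ
  have hnd := traceForm_nondegenerate K L
  let c := (Algebra.traceForm K L).dualBasis hnd b'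
  obtain ⟨d, hd, hdc⟩ := exists_integral_multiples A K (Finset.univ.image c)
  refine ⟨s.card, β, d, hd, fun w hw ↦ ?_⟩
  obtain ⟨ψ, rfl⟩ := Submodule.Quotient.mk_surjective _ w
  have h1 : ∀ i, IsTriv (im A K) (trFun (β i • ψ.1)) := fun i ↦ by
    have h2 := congrFun hw i
    rw [trPi_apply, ← Submodule.Quotient.mk_smul] at h2
    exact trW_eq_zero A B K L h2
  choose t ht using h1
  let g₀ : L := ∑ i, t i • c i
  have hg₀ : ∀ i, Algebra.trace K L (g₀ * b' i) = t i := by
    intro i
    have h2 := LinearMap.BilinForm.dualBasis_repr_apply hnd b' g₀ i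
    rw [Algebra.traceForm_apply] at h2
    rw [← h2]
    simp only [g₀]
    change (c.repr (∑ i, t i • c i)) i = t i
    rw [Module.Basis.repr_sum_self]
  rw [← Submodule.Quotient.mk_smul, Submodule.Quotient.mk_eq_zero]
  refine ⟨algebraMap A L d * g₀, fun W hW ↦ ?_⟩
  have hV := restr_mem (K := K) A B hW
  have hWV := mem_ZR_VL_restr (K := K) W
  obtain ⟨g, hg⟩ := exists_isRep (K := K) ψ.2 hV
  -- `z = g - g₀` has all traces in `V`
  have hz : ∀ i, Algebra.trace K L ((g - g₀) * b' i) ∈ restr K W := by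
    intro i
    have h2 := trFun_sub_mem (hg.smul hV (β i))
    have h3 := ht i _ hV
    have h4 := sub_mem h3 h2
    have h5 : Algebra.trace K L ((g - g₀) * b' i) =
        trFun (β i • ψ.1) (restr K W) - t i - (trFun (β i • ψ.1) (restr K W) - Algebra.trace K L (β i • g)) := by
      rw [sub_mul, map_sub, hg₀, Algebra.smul_def (β i) g, hβ, mul_comm g]
      ring
    rw [h5]
    exact h4
  have hdz : algebraMap A L d * (g - g₀) ∈ W := by
    have h2 : g - g₀ = ∑ i, Algebra.trace K L ((g - g₀) * b' i) • c i := by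
      conv_lhs => rw [← c.sum_repr (g - g₀)]
      refine Finset.sum_congr rfl fun i _ ↦ ?_
      congr 1
      exact LinearMap.BilinForm.dualBasis_repr_apply hnd b' (g - g₀) i
    rw [h2, Finset.mul_sum]
    refine sum_mem fun i _ ↦ ?_
    rw [mul_smul_comm, Algebra.smul_def]
    refine W.mul_mem _ _ (mem_ZR_VL.1 hWV _ (hz i)) ?_
    have h3 := hdc (c i) (Finset.mem_image_of_mem _ (Finset.mem_univ i))
    rw [Algebra.smul_def] at h3
    have h4 : IsIntegral (im B L) (algebraMap A L d * c i) := by
      have h5 : IsIntegral B (algebraMap A L d * c i) := h3.tower_top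
      obtain ⟨p, hp, hpx⟩ := h5
      refine ⟨p.map (algebraMap B L).rangeRestrict, hp.map _, ?_⟩
      rw [Polynomial.eval₂_map]
      exact hpx
    exact isIntegral_iff.1 h4 W hW
  have h6 := W.mul_mem _ _ (mem_ZR_im.1 hW (algebraMap A B d)) (hg W hWV)
  rw [← IsScalarTower.algebraMap_apply] at h6
  have h7 := W.add_mem _ _ h6 hdz
  convert h7 using 1
  change (algebraMap A B d • ψ.1) W - _ = _
  rw [Pi.smul_apply, Algebra.smul_def, ← IsScalarTower.algebraMap_apply]
  ring

/-- **Finite length of `W` goes up.** -/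
theorem isFiniteLength_of_trace [IsDomain A] [IsFractionRing A K] [IsFractionRing B L] [IsIntegrallyClosed B]
    [Algebra.IsSeparable K L] (hinj : Function.Injective (algebraMap A B)) (hA : IsFiniteLength A (WA A K))
    (hB : ∀ e : B, e ≠ 0 → IsFiniteLength B (torsionBy B (WA B L) e)) : IsFiniteLength B (WA B L) := by
  obtain ⟨n, β, d, hd, hk⟩ := exists_trPi A B K L
  let N : Submodule B (WA B L) := torsionBy B (WA B L) (algebraMap A B d)
  have hN : IsFiniteLength B N := hB _ ((map_ne_zero_iff _ hinj).2 hd)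
  -- the quotient has finite length over `A`
  have h1 : IsFiniteLength A (Fin n → WA A K) := Groth.Agent.Lipman.BoundAlg.isFiniteLength_pi_fin n hA
  rw [isFiniteLength_iff_isNoetherian_isArtinian] at h1
  obtain ⟨_, _⟩ := h1
  let f := trPi A B K L β
  have h2 : IsNoetherian A (WA B L ⧸ LinearMap.ker f) := isNoetherian_of_linearEquiv (LinearMap.quotKerEquivRange f).symm
  have h3 : IsArtinian A (WA B L ⧸ LinearMap.ker f) := isArtinian_of_linearEquiv (LinearMap.quotKerEquivRange f).symm
  let q : (WA B L ⧸ LinearMap.ker f) →ₗ[A] (WA B L ⧸ N) := (LinearMap.ker f).liftQ (N.mkQ.restrictScalars A) (by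
    intro w hw
    rw [LinearMap.mem_ker] at hw ⊢
    change N.mkQ w = 0
    rw [Submodule.mkQ_apply, Submodule.Quotient.mk_eq_zero]
    exact (mem_torsionBy_iff _ _).2 (hk w hw))
  have hq : Function.Surjective q := by
    intro x
    obtain ⟨w, rfl⟩ := Submodule.Quotient.mk_surjective _ x
    exact ⟨Submodule.Quotient.mk w, rfl⟩
  have h4 : IsNoetherian A (WA B L ⧸ N) := isNoetherian_of_surjective q (LinearMap.range_eq_top.2 hq)
  have h5 : IsArtinian A (WA B L ⧸ N) := isArtinian_of_surjective _ q hq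
  have h6 : IsFiniteLength B (WA B L ⧸ N) := by
    rw [isFiniteLength_iff_isNoetherian_isArtinian]
    exact ⟨isNoetherian_of_tower A h4, isArtinian_of_tower A h5⟩
  exact Groth.Agent.Lipman.BoundAlg.isFiniteLength_of_range_eq_ker hN h6 N.subtype N.mkQ
    (by rw [Submodule.range_subtype, Submodule.ker_mkQ])

end Groth.Agent.Resolve.K112.TraceMain
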