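import Groth.Agent.Resolve.K112.WMod
import Groth.Agent.Lipman.QCDict679
import Mathlib.RingTheory.DedekindDomain.IntegralClosure
import Mathlib.RingTheory.Trace.Basic

/-!
# The trace on `W`, and going up along finite separable extensions

`A → B` a finite extension of normal domains with separable extension `K → L` of fraction fields.  Then there is an
`A`-linear map `W(B) → W(A)^n` whose kernel is killed by a nonzero element of `A`.
-/

set_option autoImplicit false
universe u v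

open IsLocalRing Submodule

namespace Groth.Agent.Resolve.K112.TraceW

open Groth.Agent.Lipman.Defs Groth.Agent.Lipman.ZRD158 WM

section Tube

variable {L : Type u} [Field L]

/-- **Tube lemma** for the Zariski-Riemann space. -/
theorem tube (R : Subring L) (V₀ : Set L) (P : ValuationSubring L → Prop)
    (h : ∀ W ∈ ZR R, V₀ ⊆ W → ∃ T : Set L, T.Finite ∧ T ⊆ W ∧ ∀ W' ∈ ZR R, T ⊆ W' → P W') :
    ∃ S : Set L, S.Finite ∧ S ⊆ V₀ ∧ ∀ W ∈ ZR R, S ⊆ W → P W := by
  classical
  by_contra hcon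
  push Not at hcon
  let C : Finset V₀ → Set (ValuationSubring L) := fun F ↦ {W | W ∈ ZR R ∧ (∀ x ∈ F, (x : L) ∈ W) ∧ ¬ P W}
  obtain ⟨𝒰, h𝒰⟩ := Ultrafilter.exists_ultrafilter_of_finite_inter_nonempty (Set.range C) (by
    intro T hT
    obtain ⟨T', -, hT'⟩ : ∃ T' : Finset (Finset V₀), (T' : Set (Finset V₀)) ⊆ Set.univ ∧ T'.image C = T := by
      rw [← Finset.subset_set_image_iff, Set.image_univ]
      exact hT
    obtain ⟨W, hW, hS, hP⟩ := hcon ((fun x : V₀ ↦ (x : L)) '' (T'.sup id : Finset V₀))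
      ((Finset.finite_toSet _).image _) (by rintro _ ⟨x, -, rfl⟩; exact x.2)
    refine ⟨W, ?_⟩
    rw [Set.mem_sInter]
    intro t ht
    rw [← hT', Finset.coe_image] at ht
    obtain ⟨F, hF, rfl⟩ := ht
    refine ⟨hW, fun x hx ↦ hS ⟨x, ?_, rfl⟩, hP⟩
    exact Finset.mem_coe.2 (Finset.mem_sup.2 ⟨F, hF, hx⟩))
  have hC : ∀ F, ∀ᶠ V in (𝒰 : Filter (ValuationSubring L)), V ∈ C F := fun l ↦ h𝒰 ⟨l, rfl⟩
  have hR : ∀ᶠ V in (𝒰 : Filter (ValuationSubring L)), V ∈ ZR R := (hC ∅).mono fun V hV ↦ hV.1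
  let W : ValuationSubring L :=
    { carrier := {x | ∀ᶠ V in (𝒰 : Filter (ValuationSubring L)), x ∈ V}
      mul_mem' := fun {a b} ha hb ↦ by
        filter_upwards [ha, hb] with V h1 h2 using V.mul_mem _ _ h1 h2
      one_mem' := Filter.Eventually.of_forall fun V ↦ V.one_mem
      add_mem' := fun {a b} ha hb ↦ by
        filter_upwards [ha, hb] with V h1 h2 using V.add_mem _ _ h1 h2
      zero_mem' := Filter.Eventually.of_forall fun V ↦ V.zero_mem
      neg_mem' := fun {a} ha ↦ by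
        filter_upwards [ha] with V h1 using V.neg_mem _ h1
      mem_or_inv_mem' := fun x ↦ by
        change (∀ᶠ V in (𝒰 : Filter (ValuationSubring L)), x ∈ V) ∨
          (∀ᶠ V in (𝒰 : Filter (ValuationSubring L)), x⁻¹ ∈ V)
        rw [← Ultrafilter.eventually_or]
        exact Filter.Eventually.of_forall fun V ↦ V.mem_or_inv_mem x }
  have hmemW : ∀ x, x ∈ W ↔ ∀ᶠ V in (𝒰 : Filter (ValuationSubring L)), x ∈ V := fun _ ↦ Iff.rfl
  obtain ⟨T, hT, hTW, hTP⟩ := h W (fun x hx ↦ hR.mono fun V hV ↦ hV hx)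
    (fun x hx ↦ (hC {⟨x, hx⟩}).mono fun V hV ↦ hV.2.1 ⟨x, hx⟩ (Finset.mem_singleton_self _))
  have h1 : ∀ᶠ V in (𝒰 : Filter (ValuationSubring L)), ∀ s ∈ T, s ∈ V := by
    have := hT.eventually_all (p := fun s V ↦ s ∈ V) (l := (𝒰 : Filter (ValuationSubring L)))
    exact this.2 fun s hs ↦ (hmemW s).1 (hTW hs)
  obtain ⟨V, h2, h3⟩ := (h1.and (hC ∅)).exists
  exact h3.2.2 (hTP V h3.1 h2)

end Tube

section Prufer

variable {K : Type u} [Field K] {L : Type u} [Field L] [Algebra K L]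

/-- The image in `L` of a valuation ring of `K`. -/
abbrev VL (L : Type u) [Field L] [Algebra K L] (V : ValuationSubring K) : Subring L :=
  V.toSubring.map (algebraMap K L)

theorem mem_ZR_VL {V : ValuationSubring K} {W : ValuationSubring L} :
    W ∈ ZR (VL L V) ↔ ∀ x ∈ V, algebraMap K L x ∈ W := by
  rw [mem_ZR, Subring.map_le_iff_le_comap]
  exact Iff.rfl

open Polynomial in
/-- Over a valuation ring `V` of `K`: for every algebraic `s` there are `u, v` with `u - s v = 1` such that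
`u, s u, v, s v` are integral over `V`. -/
theorem exists_uv (V : ValuationSubring K) {s : L} (hs : IsAlgebraic K s) :
    ∃ a b : L, a - s * b = 1 ∧ ∀ W ∈ ZR (VL L V), a ∈ W ∧ s * a ∈ W ∧ b ∈ W ∧ s * b ∈ W := by
  classical
  obtain ⟨p, hp0, hp⟩ := hs
  obtain ⟨j, hj, hmax⟩ := Finset.exists_max_image p.support (fun i ↦ V.valuation (p.coeff i))
    (Polynomial.support_nonempty.2 hp0)
  have hj0 : p.coeff j ≠ 0 := Polynomial.mem_support_iff.1 hj
  let c : ℕ → L := fun i ↦ algebraMap K L (p.coeff i / p.coeff j)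
  have hc : ∀ i, ∀ W ∈ ZR (VL L V), c i ∈ W := by
    intro i W hW
    refine mem_ZR_VL.1 hW _ ?_
    by_cases hi : i ∈ p.support
    · rw [← V.valuation_le_one_iff, map_div₀]
      exact div_le_one_of_le₀ (hmax i hi) zero_le
    · rw [Polynomial.notMem_support_iff.1 hi, zero_div]
      exact V.zero_mem
  have hcj : c j = 1 := by
    simp only [c]
    rw [div_self hj0, map_one]
  have hjn : j ≤ p.natDegree := Polynomial.le_natDegree_of_mem_supp j hj
  obtain ⟨m, hm⟩ := Nat.exists_eq_add_of_le hjn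
  have hsum : ∑ i ∈ Finset.range (j + (m + 1)), c i * s ^ i = 0 := by
    have h1 : algebraMap K L (p.coeff j)⁻¹ * (Polynomial.aeval s p) = 0 := by rw [hp, mul_zero]
    rw [Polynomial.aeval_eq_sum_range, hm, Finset.mul_sum] at h1
    rw [← h1]
    refine Finset.sum_congr (by rw [add_assoc]) fun i _ ↦ ?_
    simp only [c]
    rw [Algebra.smul_def, ← mul_assoc, ← map_mul, div_eq_inv_mul]
  rw [Finset.sum_range_add] at hsum
  let a : L := ∑ i ∈ Finset.range (m + 1), c (j + i) * s ^ i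
  let b : L := ∑ i ∈ Finset.range m, c (j + (i + 1)) * s ^ i
  have hab : a = 1 + s * b := by
    simp only [a, b]
    rw [Finset.sum_range_succ', Finset.mul_sum, add_zero, pow_zero, mul_one, hcj, add_comm]
    congr 1
    refine Finset.sum_congr rfl fun i _ ↦ ?_
    ring
  have ha2 : ∑ i ∈ Finset.range j, c i * s ^ i + s ^ j * a = 0 := by
    rw [← hsum]
    congr 1
    simp only [a]
    rw [Finset.mul_sum]
    refine Finset.sum_congr rfl fun i _ ↦ ?_
    ring
  refine ⟨a, b, by rw [hab]; ring, fun W hW ↦ ?_⟩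
  by_cases hsW : s ∈ W
  · have ha : a ∈ W := sum_mem fun i _ ↦ W.mul_mem _ _ (hc _ W hW) (pow_mem hsW i)
    have hb : b ∈ W := sum_mem fun i _ ↦ W.mul_mem _ _ (hc _ W hW) (pow_mem hsW i)
    exact ⟨ha, W.mul_mem _ _ hsW ha, hb, W.mul_mem _ _ hsW hb⟩
  · have hs0 : s ≠ 0 := by
      rintro rfl
      exact hsW W.zero_mem
    have hsi : s⁻¹ ∈ W := (W.mem_or_inv_mem s).resolve_left hsW
    have ha3 : a = - ∑ i ∈ Finset.range j, c i * (s⁻¹) ^ (j - i) := by
      have h1 : a = - (s ^ j)⁻¹ * ∑ i ∈ Finset.range j, c i * s ^ i := by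
        have h2 : s ^ j * a = - ∑ i ∈ Finset.range j, c i * s ^ i := by
          rw [eq_neg_iff_add_eq_zero, add_comm]
          exact ha2
        rw [neg_mul, ← mul_neg, ← h2, inv_mul_cancel_left₀ (pow_ne_zero _ hs0)]
      rw [h1, neg_mul, Finset.mul_sum]
      congr 1
      refine Finset.sum_congr rfl fun i hi ↦ ?_
      have hij : i < j := Finset.mem_range.1 hi
      have h3 : s ^ j = s ^ i * s ^ (j - i) := by rw [← pow_add]; congr 1; omega
      rw [h3, inv_pow]
      field_simp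
    have hsa : s * a = - ∑ i ∈ Finset.range j, c i * (s⁻¹) ^ (j - i - 1) := by
      rw [ha3, mul_neg, Finset.mul_sum]
      congr 1
      refine Finset.sum_congr rfl fun i hi ↦ ?_
      have hij : i < j := Finset.mem_range.1 hi
      obtain ⟨k, hk⟩ : ∃ k, j - i = k + 1 := ⟨j - i - 1, by omega⟩
      rw [hk, Nat.add_sub_cancel, pow_succ]
      field_simp
    have ha : a ∈ W := by
      rw [ha3]
      exact W.neg_mem _ (sum_mem fun i _ ↦ W.mul_mem _ _ (hc _ W hW) (pow_mem hsi _))
    have hsa' : s * a ∈ W := by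
      rw [hsa]
      exact W.neg_mem _ (sum_mem fun i _ ↦ W.mul_mem _ _ (hc _ W hW) (pow_mem hsi _))
    have hsb : s * b ∈ W := by
      have : s * b = a - 1 := by rw [hab]; ring
      rw [this]
      exact sub_mem ha W.one_mem
    refine ⟨ha, hsa', ?_, hsb⟩
    have : b = s⁻¹ * (s * b) := by rw [inv_mul_cancel_left₀ hs0]
    rw [this]
    exact W.mul_mem _ _ hsi hsb

/-- The ring of elements integral over the valuation ring `V`. -/
def IC (L : Type u) [Field L] [Algebra K L] (V : ValuationSubring K) : Subring L :=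
  (integralClosure (VL L V) L).toSubring

theorem mem_IC {V : ValuationSubring K} {x : L} : x ∈ IC L V ↔ ∀ W ∈ ZR (VL L V), x ∈ W :=
  isIntegral_iff (R := VL L V)

theorem ZR_IC (V : ValuationSubring K) : ZR (IC L V) = ZR (VL L V) := by
  ext W
  constructor
  · intro h
    refine mem_ZR_VL.2 fun x hx ↦ h ?_
    rw [mem_IC]
    exact fun W' hW' ↦ mem_ZR_VL.1 hW' x hx
  · intro h x hx
    exact mem_IC.1 hx W h

/-- A function which is locally constant on the valuation rings above `V` is constant there. -/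
theorem exists_rep_of_locally [Algebra.IsAlgebraic K L] (V : ValuationSubring K) (ψ : ValuationSubring L → L)
    (hψ : ∀ W₀ ∈ ZR (VL L V), ∃ (S : Set L) (f : L), S.Finite ∧ (∀ s ∈ S, s ∈ W₀) ∧
      ∀ W ∈ ZR (VL L V), (∀ s ∈ S, s ∈ W) → ψ W - f ∈ W) :
    ∃ g : L, ∀ W ∈ ZR (VL L V), ψ W - g ∈ W := by
  classical
  have h : IsTriv (IC L V) ψ := by
    refine Groth.Agent.Lipman.QC.isTriv_of_locally_prime (IC L V) ψ fun P hP ↦ ?_
    obtain ⟨W₀, hW₀, hc⟩ := Groth.Agent.Lipman.QC.exists_centre (IC L V) P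
    have hW₀' : W₀ ∈ ZR (VL L V) := by rw [← ZR_IC]; exact hW₀
    obtain ⟨S, f, hS, hSW, hf⟩ := hψ W₀ hW₀'
    -- common denominators
    have key : ∀ s : L, s ∈ W₀ → ∃ g : IC L V, g ∉ P ∧ ∀ W ∈ ZR (VL L V), (g : L)⁻¹ ∈ W → s ∈ W := by
      intro s hs
      obtain ⟨a, b, hab, h1⟩ := exists_uv V (Algebra.IsAlgebraic.isAlgebraic (R := K) s)
      let a' : IC L V := ⟨a, mem_IC.2 fun W hW ↦ (h1 W hW).1⟩
      let b' : IC L V := ⟨b, mem_IC.2 fun W hW ↦ (h1 W hW).2.2.1⟩
      have h2 : ∀ g : IC L V, g ∉ P → (∀ W ∈ ZR (VL L V), s * g ∈ W) →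
          ∀ W ∈ ZR (VL L V), (g : L)⁻¹ ∈ W → s ∈ W := by
        intro g hg h3 W hW hi
        have hg0 : (g : L) ≠ 0 := by
          intro h0
          apply hg
          have : g = 0 := Subtype.ext h0
          rw [this]
          exact P.zero_mem
        have h4 : s = (s * g) * (g : L)⁻¹ := by rw [mul_inv_cancel_right₀ hg0]
        rw [h4]
        exact W.mul_mem _ _ (h3 W hW) hi
      by_cases ha : a' ∈ P
      · have hb : b' ∉ P := by
          intro hb
          have h3 : a ∈ W₀.nonunits := (hc a').1 ha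
          have h4 : s * b ∈ W₀.nonunits := Groth.Agent.Lipman.ZR158.mul_nonunits hs ((hc b').1 hb)
          have h5 : (1 : L) ∈ W₀.nonunits := by
            rw [ValuationSubring.mem_nonunits_iff] at h3 h4 ⊢
            rw [← hab, sub_eq_add_neg]
            refine W₀.valuation.map_add_lt h3 ?_
            rwa [Valuation.map_neg]
          rw [ValuationSubring.mem_nonunits_iff, map_one] at h5
          exact lt_irrefl _ h5
        exact ⟨b', hb, h2 b' hb fun W hW ↦ (h1 W hW).2.2.2⟩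
      · exact ⟨a', ha, h2 a' ha (fun W hW ↦ (h1 W hW).2.1)⟩
    choose! g hgP hg using key
    refine ⟨∏ s ∈ hS.toFinset, g s, ?_, f, fun W hW hinv ↦ ?_⟩
    · intro hmem
      obtain ⟨s, hs, hsP⟩ := (hP.prod_mem_iff).1 hmem
      exact hgP s (hSW s (hS.mem_toFinset.1 hs)) hsP
    · rw [ZR_IC] at hW
      refine hf W hW fun s hs ↦ hg s (hSW s hs) W hW ?_
      have h1 : ∀ t, (g t : L) ∈ W := fun t ↦ mem_IC.1 (g t).2 W hW
      have hprod : ((∏ s ∈ hS.toFinset, g s : IC L V) : L) = ∏ s ∈ hS.toFinset, (g s : L) := by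
        exact map_prod (IC L V).subtype _ _
      rw [hprod] at hinv
      have h2 : (∏ s ∈ hS.toFinset, (g s : L)) = g s * ∏ t ∈ hS.toFinset.erase s, (g t : L) :=
        (Finset.mul_prod_erase _ _ (hS.mem_toFinset.2 hs)).symm
      have hne : ∏ t ∈ hS.toFinset.erase s, (g t : L) ≠ 0 := by
        rw [Finset.prod_ne_zero_iff]
        intro t ht h0
        have ht' := Finset.mem_of_mem_erase ht
        apply hgP t (hSW t (hS.mem_toFinset.1 ht'))
        have : g t = 0 := Subtype.ext h0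
        rw [this]
        exact P.zero_mem
      have h3 : (g s : L)⁻¹ = (∏ t ∈ hS.toFinset.erase s, (g t : L)) * (∏ s ∈ hS.toFinset, (g s : L))⁻¹ := by
        rw [h2, mul_inv, mul_comm ((g s : L)⁻¹), mul_inv_cancel_left₀ hne]
      rw [h3]
      exact W.mul_mem _ _ (prod_mem fun t _ ↦ h1 t) hinv
  obtain ⟨g, hg⟩ := h
  rw [ZR_IC] at hg
  exact ⟨g, hg⟩

end Prufer

section Trace

variable {A B K L : Type u} [CommRing A] [CommRing B] [Field K] [Field L] [Algebra A K] [Algebra A B] [Algebra B L]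
  [Algebra A L] [Algebra K L] [IsScalarTower A B L] [IsScalarTower A K L]

theorem mem_ZR_im {V : ValuationSubring K} : V ∈ ZR (im A K) ↔ ∀ a, algebraMap A K a ∈ V := by
  constructor
  · intro h a
    exact h ⟨a, rfl⟩
  · rintro h _ ⟨a, rfl⟩
    exact h a

variable (B) in
/-- The valuation rings above `V ⊇ A` contain `B`. -/
theorem mem_ZR_im_of_mem [Algebra.IsIntegral A B] {V : ValuationSubring K} (hV : V ∈ ZR (im A K))
    {W : ValuationSubring L} (hW : W ∈ ZR (VL L V)) : W ∈ ZR (im B L) := by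
  rw [mem_ZR_im]
  intro b
  have h1 : IsIntegral (im A L) (algebraMap B L b) := by
    obtain ⟨p, hp, hpb⟩ := Algebra.IsIntegral.isIntegral (R := A) b
    refine ⟨p.map (algebraMap A L).rangeRestrict, hp.map _, ?_⟩
    rw [Polynomial.eval₂_map]
    have h2 : (algebraMap (im A L) L).comp (algebraMap A L).rangeRestrict = (algebraMap B L).comp (algebraMap A B) := by
      ext a
      exact IsScalarTower.algebraMap_apply A B L a
    rw [h2, ← Polynomial.hom_eval₂, hpb, map_zero]
  refine isIntegral_iff.1 h1 W ?_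
  rw [mem_ZR_im]
  intro a
  rw [IsScalarTower.algebraMap_apply A K L]
  exact mem_ZR_VL.1 hW _ (mem_ZR_im.1 hV a)

variable (K) in
/-- The restriction of a valuation ring of `L` to `K`. -/
def restr (W : ValuationSubring L) : ValuationSubring K := W.comap (algebraMap K L)

theorem mem_ZR_VL_restr (W : ValuationSubring L) : W ∈ ZR (VL L (restr K W)) :=
  mem_ZR_VL.2 fun _ hx ↦ hx

variable (A B) in
theorem restr_mem {W : ValuationSubring L} (hW : W ∈ ZR (im B L)) : restr K W ∈ ZR (im A K) := by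
  rw [mem_ZR_im] at hW ⊢
  intro a
  rw [restr, ValuationSubring.mem_comap, ← IsScalarTower.algebraMap_apply A K L,
    IsScalarTower.algebraMap_apply A B L]
  exact hW _

/-- `g` represents `ψ` above `V`. -/
def IsRep (ψ : ValuationSubring L → L) (V : ValuationSubring K) (g : L) : Prop :=
  ∀ W ∈ ZR (VL L V), ψ W - g ∈ W

theorem IsRep.add {ψ ψ' : ValuationSubring L → L} {V : ValuationSubring K} {g g' : L} (h : IsRep ψ V g)
    (h' : IsRep ψ' V g') : IsRep (ψ + ψ') V (g + g') := fun W hW ↦ by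
  rw [Pi.add_apply, add_sub_add_comm]
  exact W.add_mem _ _ (h W hW) (h' W hW)

theorem IsRep.smul [Algebra.IsIntegral A B] {ψ : ValuationSubring L → L} {V : ValuationSubring K}
    (hV : V ∈ ZR (im A K)) {g : L} (h : IsRep ψ V g) (b : B) : IsRep (b • ψ) V (b • g) := fun W hW ↦ by
  rw [Pi.smul_apply, ← smul_sub, Algebra.smul_def]
  exact W.mul_mem _ _ (mem_ZR_im.1 (mem_ZR_im_of_mem B hV hW) b) (h W hW)

theorem exists_isRep [Algebra.IsIntegral A B] [Algebra.IsAlgebraic K L] {ψ : ValuationSubring L → L}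
    (hψ : ψ ∈ D (im B L)) {V : ValuationSubring K} (hV : V ∈ ZR (im A K)) : ∃ g, IsRep ψ V g := by
  refine exists_rep_of_locally V ψ fun W₀ hW₀ ↦ ?_
  obtain ⟨S, f, hS, h1, h2⟩ := Groth.Agent.Lipman.QC.locally_const_of_mem_D hψ W₀
  exact ⟨S, f, hS, h1, fun W hW h ↦ h2 W (mem_ZR_im_of_mem B hV hW) h⟩

variable [FiniteDimensional K L]

/-- The trace of an element integral over `V` is in `V`. -/
theorem trace_mem {V : ValuationSubring K} {x : L} (hx : ∀ W ∈ ZR (VL L V), x ∈ W) :
    Algebra.trace K L x ∈ V := by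
  have h1 : IsIntegral (VL L V) x := isIntegral_iff.2 hx
  have h2 : IsIntegral V x := by
    obtain ⟨p, hp, hpx⟩ := h1
    have hsurj : Function.Surjective (((algebraMap K L).comp V.subtype).codRestrict (VL L V)
        fun v ↦ ⟨v, v.2, rfl⟩) := by
      rintro ⟨_, v, hv, rfl⟩
      exact ⟨⟨v, hv⟩, rfl⟩
    obtain ⟨q, hq⟩ := Polynomial.map_surjective _ hsurj p
    have h3 := Polynomial.lifts_and_natDegree_eq_and_monic (f := ((algebraMap K L).comp V.subtype).codRestrict (VL L V)
        fun v ↦ ⟨v, v.2, rfl⟩) (p := p) ⟨q, hq⟩ hp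
    obtain ⟨q', hq', -, hq'm⟩ := h3
    refine ⟨q', hq'm, ?_⟩
    rw [← hq', Polynomial.eval₂_map] at hpx
    exact hpx
  have h3 := Algebra.isIntegral_trace (L := K) (F := L) h2
  obtain ⟨y, hy⟩ := IsIntegrallyClosed.isIntegral_iff.1 h3
  rw [← hy]
  exact y.2

open Classical in
/-- The trace of a function. -/
noncomputable def trFun (ψ : ValuationSubring L → L) (V : ValuationSubring K) : K :=
  if h : ∃ g, IsRep ψ V g then Algebra.trace K L h.choose else 0

theorem trFun_sub_mem {ψ : ValuationSubring L → L} {V : ValuationSubring K} {g : L} (h : IsRep ψ V g) :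
    trFun ψ V - Algebra.trace K L g ∈ V := by
  have hex : ∃ g, IsRep ψ V g := ⟨g, h⟩
  rw [trFun, dif_pos hex, ← map_sub]
  refine trace_mem fun W hW ↦ ?_
  have h1 : hex.choose - g = (ψ W - g) - (ψ W - hex.choose) := by ring
  rw [h1]
  exact sub_mem (h W hW) (hex.choose_spec W hW)

theorem trFun_mem_D [Algebra.IsIntegral A B] {ψ : ValuationSubring L → L} (hψ : ψ ∈ D (im B L)) :
    trFun ψ ∈ D (im A K) := by
  refine Groth.Agent.Lipman.QC.mem_D_of_locally_const _ _ fun V hV ↦ ?_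
  obtain ⟨g, hg⟩ := exists_isRep hψ hV
  obtain ⟨S, hS, hSV, hS'⟩ := tube (im B L) (VL L V : Set L) (fun W ↦ ψ W - g ∈ W) (by
    intro W hW hVW
    obtain ⟨T, f, hT, hTW, hf⟩ := Groth.Agent.Lipman.QC.locally_const_of_mem_D hψ W
    have h1 := hf W hW hTW
    have h2 := hg W hVW
    refine ⟨insert (f - g) T, hT.insert _, ?_, fun W' hW' h ↦ ?_⟩
    · rintro x (rfl | hx)
      · have h3 : f - g = (ψ W - g) - (ψ W - f) := by ring
        rw [h3]
        exact sub_mem h2 h1
      · exact hTW x hx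
    · have h4 := hf W' hW' fun s hs ↦ h (Set.mem_insert_of_mem _ hs)
      have h5 : f - g ∈ W' := h (Set.mem_insert _ _)
      rw [← sub_add_sub_cancel (ψ W') f g]
      exact W'.add_mem _ _ h4 h5)
  refine ⟨(algebraMap K L) ⁻¹' S, Algebra.trace K L g, hS.preimage (algebraMap K L).injective.injOn, ?_, ?_⟩
  · intro s hs
    obtain ⟨v, hv, hvs⟩ := hSV hs
    rw [← (algebraMap K L).injective hvs]
    exact hv
  · intro V' hV' h
    refine trFun_sub_mem fun W hW ↦ hS' W (mem_ZR_im_of_mem B hV' hW) fun x hx ↦ ?_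
    obtain ⟨v, hv, rfl⟩ := hSV hx
    exact mem_ZR_VL.1 hW v (h v hx)

theorem isTriv_trFun [Algebra.IsIntegral A B] {ψ : ValuationSubring L → L} (hψ : IsTriv (im B L) ψ) :
    IsTriv (im A K) (trFun ψ) := by
  obtain ⟨g, hg⟩ := hψ
  exact ⟨Algebra.trace K L g, fun V hV ↦ trFun_sub_mem fun W hW ↦ hg W (mem_ZR_im_of_mem B hV hW)⟩

end Trace

end Groth.Agent.Resolve.K112.TraceW
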